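import Groth.Agent.Fano.K433.IndepMain
import Groth.Agent.Fano.K714.TypeConst2

set_option autoImplicit false

/-!
# Hyperplane sections of a smooth cubic threefold: independent conditions

`T` the trilinear form of a smooth cubic threefold, `l₀` a nonzero linear form, `φ_i` vectors over discrete
valuation rings with `l₀(φ_i) = 0`, `T(φ_i,φ_i,φ_i) = 0` and `l₀ ≡ a_i T(φ_i,φ_i,·)` modulo `m_i^{δ_i}`.
-/

universe u

namespace K433.Indep

open K656.Trilin IsLocalRing Module

section Pull

variable {k : Type*} [Field k] {m n : ℕ}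

/-- Pullback of a trilinear form along a linear map. -/
noncomputable def pullT (T : (Fin n → k) →ₗ[k] (Fin n → k) →ₗ[k] (Fin n → k) →ₗ[k] k)
    (B : (Fin m → k) →ₗ[k] (Fin n → k)) : (Fin m → k) →ₗ[k] (Fin m → k) →ₗ[k] (Fin m → k) →ₗ[k] k where
  toFun u := (T (B u)).compl₁₂ B B
  map_add' u v := by
    ext a b
    simp
  map_smul' r u := by
    ext a b
    simp

theorem pullT_apply (T : (Fin n → k) →ₗ[k] (Fin n → k) →ₗ[k] (Fin n → k) →ₗ[k] k)
    (B : (Fin m → k) →ₗ[k] (Fin n → k)) (u v w : Fin m → k) :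
    pullT T B u v w = T (B u) (B v) (B w) := rfl

theorem pullT_sym {T : (Fin n → k) →ₗ[k] (Fin n → k) →ₗ[k] (Fin n → k) →ₗ[k] k} (hT : IsSym3 T)
    (B : (Fin m → k) →ₗ[k] (Fin n → k)) : IsSym3 (pullT T B) where
  s12 _ _ _ := hT.s12 _ _ _
  s23 _ _ _ := hT.s23 _ _ _

/-- Base change of a linear map of coordinate spaces. -/
noncomputable def bcL (B : (Fin m → k) →ₗ[k] (Fin n → k)) {R : Type*} [CommRing R] [Algebra k R]
    (x : Fin m → R) : Fin n → R := fun c => ∑ j, algebraMap k R (B (Pi.single j 1) c) * x j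

variable {R : Type*} [CommRing R] [Algebra k R]

theorem ev_sum1 (T : (Fin n → k) →ₗ[k] (Fin n → k) →ₗ[k] (Fin n → k) →ₗ[k] k) {ι : Type*}
    (s : Finset ι) (z : ι → Fin n → R) (v w : Fin n → R) :
    ev T (∑ c ∈ s, z c) v w = ∑ c ∈ s, ev T (z c) v w := by
  classical
  induction s using Finset.induction_on with
  | empty => simp [ev]
  | insert a s ha ih => rw [Finset.sum_insert ha, ev_add1, ih, Finset.sum_insert ha]

theorem ev_sum2 (T : (Fin n → k) →ₗ[k] (Fin n → k) →ₗ[k] (Fin n → k) →ₗ[k] k) {ι : Type*}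
    (s : Finset ι) (z : ι → Fin n → R) (v w : Fin n → R) :
    ev T v (∑ c ∈ s, z c) w = ∑ c ∈ s, ev T v (z c) w := by
  classical
  induction s using Finset.induction_on with
  | empty => simp [ev]
  | insert a s ha ih => rw [Finset.sum_insert ha, ev_add2, ih, Finset.sum_insert ha]

theorem ev_sum3 (T : (Fin n → k) →ₗ[k] (Fin n → k) →ₗ[k] (Fin n → k) →ₗ[k] k) {ι : Type*}
    (s : Finset ι) (z : ι → Fin n → R) (v w : Fin n → R) :
    ev T v w (∑ c ∈ s, z c) = ∑ c ∈ s, ev T v w (z c) := by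
  classical
  induction s using Finset.induction_on with
  | empty => simp [ev]
  | insert a s ha ih => rw [Finset.sum_insert ha, ev_add3, ih, Finset.sum_insert ha]

theorem bcL_eq_sum (B : (Fin m → k) →ₗ[k] (Fin n → k)) (x : Fin m → R) :
    bcL B x = ∑ j, x j • (fun c => algebraMap k R (B (Pi.single j 1) c)) := by
  funext c
  simp only [bcL, Finset.sum_apply, Pi.smul_apply, smul_eq_mul]
  exact Finset.sum_congr rfl fun j _ => mul_comm _ _

theorem ev_pullT (T : (Fin n → k) →ₗ[k] (Fin n → k) →ₗ[k] (Fin n → k) →ₗ[k] k)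
    (B : (Fin m → k) →ₗ[k] (Fin n → k)) (x y z : Fin m → R) :
    ev (pullT T B) x y z = ev T (bcL B x) (bcL B y) (bcL B z) := by
  rw [bcL_eq_sum B x, bcL_eq_sum B y, bcL_eq_sum B z, ev_sum1, ev]
  refine Finset.sum_congr rfl fun a _ => ?_
  rw [ev_smul1, ev_sum2, Finset.mul_sum]
  refine Finset.sum_congr rfl fun b _ => ?_
  rw [ev_smul2, ev_sum3, Finset.mul_sum, Finset.mul_sum]
  refine Finset.sum_congr rfl fun c _ => ?_
  rw [ev_smul3, ev_algebraMap, pullT_apply, Algebra.smul_def]
  ring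

theorem bcL_algebraMap (B : (Fin m → k) →ₗ[k] (Fin n → k)) (x : Fin m → k) :
    bcL B (fun j => algebraMap k R (x j)) = fun c => algebraMap k R (B x c) := by
  funext c
  have h : B x = ∑ j, x j • B (Pi.single j 1) := by
    conv_lhs => rw [show x = ∑ j, x j • (Pi.single j (1 : k) : Fin m → k) by
      funext j; simp [Finset.sum_apply, Pi.single_apply]]
    simp only [map_sum, map_smul]
  rw [h]
  simp only [bcL, Finset.sum_apply, Pi.smul_apply, smul_eq_mul, map_sum, map_mul]
  exact Finset.sum_congr rfl fun j _ => mul_comm _ _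

end Pull

section Five

variable {k : Type u} [Field k] [IsAlgClosed k] [CharZero k]
  {T : (Fin 5 → k) →ₗ[k] (Fin 5 → k) →ₗ[k] (Fin 5 → k) →ₗ[k] k}

/-- No line in a hyperplane consists of points where the gradient is proportional to the hyperplane. -/
theorem no_line (hT : IsSym3 T) (hsm : K714.Surf.SmoothOn T ⊤) (l : (Fin 5 → k) →ₗ[k] k) (hl : l ≠ 0)
    (L : Submodule k (Fin 5 → k)) (hL : finrank k L = 2) :
    ∃ v ∈ L, ∃ w, l w = 0 ∧ T v v w ≠ 0 := by
  by_contra hcon
  push Not at hcon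
  obtain ⟨z, hz⟩ : ∃ z, l z ≠ 0 := by
    by_contra h
    push Not at h
    exact hl (LinearMap.ext h)
  obtain ⟨g, hg⟩ := exists_linearIndependent_of_le_finrank (R := k) (M := L) (n := 2) hL.ge
  obtain ⟨s, t, hst, hq⟩ := K714.Surf.exists_quad_zero (T (g 0) (g 0) z) (2 * T (g 0) (g 1) z)
    (T (g 1) (g 1) z)
  set v : Fin 5 → k := s • (g 0 : Fin 5 → k) + t • (g 1 : Fin 5 → k) with hv
  have hvL : v ∈ L := L.add_mem (L.smul_mem _ (g 0).2) (L.smul_mem _ (g 1).2)
  have hv0 : v ≠ 0 := by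
    intro h0
    have h1 := Fintype.linearIndependent_iff.1 hg ![s, t] (by
      apply Subtype.ext
      rw [Fin.sum_univ_two]
      simpa [hv] using h0)
    have hs : s = 0 := h1 0
    have ht : t = 0 := h1 1
    rcases hst with h | h
    · exact h hs
    · exact h ht
  have hvz : T v v z = 0 := by
    rw [hv, hT.sq_smul_add_smul]
    linear_combination hq
  have hall : ∀ w, T v v w = 0 := by
    intro w
    have h1 := hcon v hvL (w - (l w / l z) • z) (by
      rw [map_sub, map_smul, smul_eq_mul, div_mul_cancel₀ _ hz, sub_self])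
    rw [map_sub, map_smul, hvz, smul_zero, sub_zero] at h1
    exact h1
  obtain ⟨w, -, hw⟩ := hsm v trivial hv0 (hall v)
  exact hw (hall w)

section Coord

variable {k : Type*} [Field k] {m n p : ℕ} {R : Type*} [CommRing R] [Algebra k R]

theorem bcL_comp (A : (Fin m → k) →ₗ[k] (Fin n → k)) (B : (Fin p → k) →ₗ[k] (Fin m → k))
    (x : Fin p → R) : bcL (A ∘ₗ B) x = bcL A (bcL B x) := by
  funext c
  have h : ∀ y : Fin m → k, A y c = ∑ d, y d * A (Pi.single d 1) c := by
    intro y
    conv_lhs => rw [show y = ∑ j, y j • (Pi.single j (1 : k) : Fin m → k) by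
      funext j; simp [Finset.sum_apply, Pi.single_apply]]
    simp only [map_sum, map_smul, Finset.sum_apply, Pi.smul_apply, smul_eq_mul]
  simp only [bcL, LinearMap.comp_apply, h (B _), map_sum, map_mul, Finset.sum_mul, Finset.mul_sum]
  rw [Finset.sum_comm]
  refine Finset.sum_congr rfl fun a _ => Finset.sum_congr rfl fun b _ => ?_
  ring

theorem bcL_id (x : Fin m → R) : bcL (LinearMap.id : (Fin m → k) →ₗ[k] (Fin m → k)) x = x := by
  funext c
  simp only [bcL, LinearMap.id_apply, Pi.single_apply]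
  simp

theorem bcL_sub (A B : (Fin m → k) →ₗ[k] (Fin n → k)) (x : Fin m → R) :
    bcL (A - B) x = bcL A x - bcL B x := by
  funext c
  simp only [bcL, LinearMap.sub_apply, Pi.sub_apply, map_sub, sub_mul, Finset.sum_sub_distrib]

theorem sur_of_bcL {ι : Type*} {O : ι → Type*} [∀ i, CommRing (O i)] [∀ i, IsLocalRing (O i)]
    [∀ i, Algebra k (O i)] {x : ∀ i, Fin m → O i} {y : ∀ i, Fin n → O i}
    (A : (Fin n → k) →ₗ[k] (Fin m → k)) (hA : ∀ i, x i = bcL A (y i)) {δ : ι → ℕ}
    (h : Sur k x δ) : Sur k y δ := by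
  intro g
  obtain ⟨c, hc⟩ := h g
  refine ⟨fun j => ∑ d, c d * A (Pi.single j 1) d, fun i => ?_⟩
  have e : ∑ j, (∑ d, c d * A (Pi.single j 1) d) • y i j = ∑ d, c d • x i d := by
    simp only [hA, bcL, Algebra.smul_def, map_sum, map_mul, Finset.sum_mul, Finset.mul_sum]
    rw [Finset.sum_comm]
    refine Finset.sum_congr rfl fun a _ => Finset.sum_congr rfl fun b _ => ?_
    ring
  rw [e]
  exact hc i

/-- The forms vanishing to order `δ`. -/
def van (k : Type*) [Field k] {ι : Type*} {O : ι → Type*} [∀ i, CommRing (O i)]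
    [∀ i, IsLocalRing (O i)] [∀ i, Algebra k (O i)] {m : ℕ} (φ : ∀ i, Fin m → O i) (δ : ι → ℕ) :
    Submodule k (Fin m → k) where
  carrier := {c | ∀ i, (∑ j, c j • φ i j) ∈ maximalIdeal (O i) ^ δ i}
  add_mem' := by
    intro a b ha hb i
    have := Ideal.add_mem _ (ha i) (hb i)
    convert this using 1
    simp only [Pi.add_apply, add_smul, Finset.sum_add_distrib]
  zero_mem' := fun i => by simp
  smul_mem' := by
    intro r a ha i
    have := Ideal.mul_mem_left _ (algebraMap k (O i) r) (ha i)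
    convert this using 1
    simp only [Pi.smul_apply, smul_eq_mul, mul_smul, ← Finset.smul_sum]
    rw [Algebra.smul_def]

theorem mem_van {ι : Type*} {O : ι → Type*} [∀ i, CommRing (O i)]
    [∀ i, IsLocalRing (O i)] [∀ i, Algebra k (O i)] {φ : ∀ i, Fin m → O i} {δ : ι → ℕ} {c : Fin m → k} :
    c ∈ van k φ δ ↔ ∀ i, (∑ j, c j • φ i j) ∈ maximalIdeal (O i) ^ δ i := Iff.rfl

/-- Independent conditions. -/
theorem finrank_van {ι : Type*} [Fintype ι] {O : ι → Type*} [∀ i, CommRing (O i)]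
    [∀ i, IsDomain (O i)] [∀ i, IsDiscreteValuationRing (O i)] [∀ i, Algebra k (O i)]
    (hres : ∀ i (x : O i), ∃ a : k, x - algebraMap k (O i) a ∈ maximalIdeal (O i))
    (φ : ∀ i, Fin m → O i) (δ : ι → ℕ) (h : Sur k φ δ) :
    finrank k (van k φ δ) + ∑ i, δ i = m := by
  let Φ : (Fin m → k) →ₗ[k] ((∀ i, O i) ⧸ idl O δ) :=
    (Ideal.Quotient.mkₐ k (idl O δ)).toLinearMap ∘ₗ
      LinearMap.pi fun i => ∑ j, (LinearMap.proj (R := k) (φ := fun _ => k) j).smulRight (φ i j)
  have hs : Function.Surjective Φ := by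
    intro g
    obtain ⟨g, rfl⟩ := Ideal.Quotient.mk_surjective g
    obtain ⟨c, hc⟩ := h g
    refine ⟨c, Ideal.Quotient.eq.2 fun i => ?_⟩
    have := hc i
    convert this using 1
    simp
  have hk : LinearMap.ker Φ = van k φ δ := by
    ext c
    rw [LinearMap.mem_ker, mem_van]
    change Ideal.Quotient.mk (idl O δ) _ = 0 ↔ _
    rw [Ideal.Quotient.eq_zero_iff_mem, mem_idl]
    refine forall_congr' fun i => ?_
    simp
  have h1 := Φ.finrank_range_add_finrank_ker
  rw [hk, LinearMap.range_eq_top.2 hs, finrank_top, finrank_quotient hres δ,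
    Module.finrank_fin_fun] at h1
  omega

end Coord

section Main

/-- **G6.** The zero scheme of the gradient of `f|_h` imposes independent conditions. -/
theorem sur_five (hT : IsSym3 T) (hsm : K714.Surf.SmoothOn T ⊤) (l : Fin 5 → k) (hl : l ≠ 0)
    {ι : Type*} [Fintype ι] {O : ι → Type*} [∀ i, CommRing (O i)]
    [∀ i, IsDomain (O i)] [∀ i, IsDiscreteValuationRing (O i)] [∀ i, Algebra k (O i)]
    (hres : ∀ i (x : O i), ∃ a : k, x - algebraMap k (O i) a ∈ maximalIdeal (O i))
    (φ : ∀ i, Fin 5 → O i) (hl0 : ∀ i, ∑ c, algebraMap k (O i) (l c) * φ i c = 0)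
    (h3 : ∀ i, ev T (φ i) (φ i) (φ i) = 0) (δ : ι → ℕ) (a : ∀ i, O i)
    (h2 : ∀ i (v : Fin 5 → O i), (∑ c, algebraMap k (O i) (l c) * v c) -
      a i * ev T (φ i) (φ i) v ∈ maximalIdeal (O i) ^ δ i)
    (himm : ∀ δ' : ι → ℕ, (∀ i, δ' i ≤ δ i) → ∑ i, δ' i ≤ 2 → Sur k φ δ') : Sur k φ δ := by
  classical
  -- the hyperplane
  let l' : (Fin 5 → k) →ₗ[k] k := ∑ c, l c • LinearMap.proj c
  have hl' : ∀ x, l' x = ∑ c, l c * x c := by
    intro x
    simp [l']
  obtain ⟨q, hq⟩ : ∃ q, l q ≠ 0 := by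
    by_contra h
    push Not at h
    exact hl (funext h)
  have hlq : ∀ c, l' (Pi.single c 1) = l c := by
    intro c
    rw [hl']
    simp [Pi.single_apply]
  let z : Fin 5 → k := (l q)⁻¹ • Pi.single q 1
  have hz : l' z = 1 := by
    simp only [z]
    rw [map_smul, hlq, smul_eq_mul, inv_mul_cancel₀ hq]
  have hl0' : l' ≠ 0 := by
    intro h
    rw [h] at hz
    exact zero_ne_one hz
  let W := LinearMap.ker l'
  have hW : finrank k W = 4 := by
    have h1 := l'.finrank_range_add_finrank_ker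
    have h2 : LinearMap.range l' = ⊤ := by
      rw [LinearMap.range_eq_top]
      intro r
      exact ⟨r • z, by rw [map_smul, hz, smul_eq_mul, mul_one]⟩
    rw [h2, finrank_top, Module.finrank_self, Module.finrank_fin_fun] at h1
    change finrank k (LinearMap.ker l') = 4
    omega
  let b := Module.finBasisOfFinrankEq k W hW
  let B : (Fin 4 → k) →ₗ[k] (Fin 5 → k) := W.subtype ∘ₗ b.equivFun.symm.toLinearMap
  have hBi : Function.Injective B := by
    intro x y hxy
    exact b.equivFun.symm.injective (Subtype.ext hxy)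
  have hBW : ∀ x, l' (B x) = 0 := fun x => (b.equivFun.symm x).2
  have hBr : ∀ y, l' y = 0 → ∃ x, B x = y := by
    intro y hy
    refine ⟨b.equivFun ⟨y, hy⟩, ?_⟩
    change ((b.equivFun.symm (b.equivFun ⟨y, hy⟩) : W) : Fin 5 → k) = y
    rw [LinearEquiv.symm_apply_apply]
  obtain ⟨B', hB'⟩ := B.exists_leftInverse_of_injective (LinearMap.ker_eq_bot.2 hBi)
  have hBB' : ∀ x, B' (B x) = x := fun x => LinearMap.congr_fun hB' x
  let w : Fin 5 → k := z - B (B' z)
  have hw : ∀ x, x - B (B' x) = l' x • w := by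
    intro x
    obtain ⟨y, hy⟩ := hBr (x - l' x • z) (by rw [map_sub, map_smul, hz, smul_eq_mul, mul_one, sub_self])
    have h1 : x = B y + l' x • z := by rw [hy]; abel
    have h2 : B (B' x) = B y + l' x • B (B' z) := by
      conv_lhs => rw [h1]
      rw [map_add, map_add, hBB', map_smul, map_smul]
    have h3 : x - B (B' x) = (B y + l' x • z) - (B y + l' x • B (B' z)) := by rw [← h2, ← h1]
    rw [h3, add_sub_add_left_eq_sub, ← smul_sub]
  -- the coordinates
  let ψ : ∀ i, Fin 4 → O i := fun i => bcL B' (φ i)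
  have hψ : ∀ i, φ i = bcL B (ψ i) := by
    intro i
    have h1 : bcL (LinearMap.id - B ∘ₗ B' : (Fin 5 → k) →ₗ[k] (Fin 5 → k)) (φ i) = 0 := by
      funext c
      have h2 : ∀ j, (LinearMap.id - B ∘ₗ B' : (Fin 5 → k) →ₗ[k] (Fin 5 → k)) (Pi.single j 1) c =
          l j * w c := by
        intro j
        rw [LinearMap.sub_apply, LinearMap.id_apply, LinearMap.comp_apply, hw, hlq, Pi.smul_apply,
          smul_eq_mul]
      simp only [bcL, h2, map_mul]
      have h3 : ∑ j, algebraMap k (O i) (l j) * algebraMap k (O i) (w c) * φ i j =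
          algebraMap k (O i) (w c) * ∑ j, algebraMap k (O i) (l j) * φ i j := by
        rw [Finset.mul_sum]
        exact Finset.sum_congr rfl fun j _ => by ring
      rw [h3, hl0, mul_zero]; rfl
    rw [bcL_sub, bcL_id, bcL_comp, sub_eq_zero] at h1
    exact h1
  refine sur_of_bcL (x := ψ) B' (fun i => rfl) ?_
  refine sur_of (T := pullT T B) (pullT_sym hT B) le_rfl ?_ ?_ hres ψ ?_ δ ?_ ?_
  · intro L hL
    have h1 : 3 ≤ finrank k (L.map B) := by
      rwa [(Submodule.equivMapOfInjective B hBi L).finrank_eq.symm]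
    by_contra hcon
    push Not at hcon
    obtain ⟨g, hg⟩ := exists_linearIndependent_of_le_finrank h1
    have hg' : LinearIndependent k (fun i => (g i : Fin 5 → k)) :=
      hg.map' (L.map B).subtype (L.map B).ker_subtype
    refine K714.TypeConst.no_plane hT (by rw [Module.finrank_fin_fun]) hsm
      (P := Submodule.span k (Set.range fun i => (g i : Fin 5 → k)))
      (by rw [finrank_span_eq_card hg', Fintype.card_fin]) fun v hv => ?_
    have hvL : v ∈ L.map B := by
      refine Submodule.span_le.2 ?_ hv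
      rintro _ ⟨i, rfl⟩
      exact (g i).2
    obtain ⟨x, hx, rfl⟩ := hvL
    exact hcon x hx
  · intro L hL
    obtain ⟨v, hv, w', hw', hne⟩ := no_line hT hsm l' hl0' (L.map B)
      (by rw [(Submodule.equivMapOfInjective B hBi L).finrank_eq.symm, hL])
    obtain ⟨x, hx, rfl⟩ := hv
    obtain ⟨y, rfl⟩ := hBr w' hw'
    exact ⟨x, hx, y, hne⟩
  · intro i
    rw [ev_pullT, ← hψ, h3]
  · intro i c
    rw [ev_pullT, ← hψ]
    by_cases hδ : δ i = 0
    · rw [hδ, pow_zero, Ideal.one_eq_top]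
      exact Submodule.mem_top
    -- `a i` is a unit
    have hu : IsUnit (a i) := by
      have h4 := h2 i (fun c => algebraMap k (O i) (z c))
      have h5 : ∑ c, algebraMap k (O i) (l c) * algebraMap k (O i) (z c) = 1 := by
        rw [← map_one (algebraMap k (O i)), ← hz, hl', map_sum]
        exact Finset.sum_congr rfl fun c _ => (map_mul _ _ _).symm
      rw [h5] at h4
      have h6 := Ideal.pow_le_self hδ h4
      by_contra hnu
      have h7 : a i * ev T (φ i) (φ i) (fun c => algebraMap k (O i) (z c)) ∈ maximalIdeal (O i) :=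
        Ideal.mul_mem_right _ _ ((mem_maximalIdeal _).2 hnu)
      have h8 := Ideal.add_mem _ h6 h7
      rw [sub_add_cancel] at h8
      exact (mem_maximalIdeal _).1 h8 isUnit_one
    have h4 := h2 i (bcL B (Pi.single c 1))
    have h5 : ∑ d, algebraMap k (O i) (l d) * bcL B (Pi.single c (1 : O i)) d = 0 := by
      have h6 : ∀ d, bcL B (Pi.single c (1 : O i)) d = algebraMap k (O i) (B (Pi.single c 1) d) := by
        intro d
        simp [bcL, Pi.single_apply]
      simp only [h6]
      rw [← map_zero (algebraMap k (O i)), ← hBW (Pi.single c 1), hl', map_sum]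
      exact Finset.sum_congr rfl fun d _ => (map_mul _ _ _).symm
    rw [h5, zero_sub, neg_mem_iff] at h4
    obtain ⟨u, hu⟩ := hu
    rw [← hu] at h4
    have h6 := Ideal.mul_mem_left _ (↑u⁻¹ : O i) h4
    rwa [← mul_assoc, Units.inv_mul, one_mul] at h6
  · intro δ' hδ' hs
    exact sur_of_bcL B hψ (himm δ' hδ' hs)

theorem sum_le_four (l : Fin 5 → k) (hl : l ≠ 0)
    {ι : Type*} [Fintype ι] {O : ι → Type*} [∀ i, CommRing (O i)]
    [∀ i, IsDomain (O i)] [∀ i, IsDiscreteValuationRing (O i)] [∀ i, Algebra k (O i)]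
    (hres : ∀ i (x : O i), ∃ a : k, x - algebraMap k (O i) a ∈ maximalIdeal (O i))
    (φ : ∀ i, Fin 5 → O i) (hl0 : ∀ i, ∑ c, algebraMap k (O i) (l c) * φ i c = 0) (δ : ι → ℕ)
    (h : Sur k φ δ) : ∑ i, δ i ≤ 4 := by
  have h1 := finrank_van hres φ δ h
  have h2 : l ∈ van k φ δ := by
    intro i
    simp only [Algebra.smul_def]
    rw [hl0]
    exact zero_mem _
  have h3 : 0 < finrank k (van k φ δ) := by
    rw [Module.finrank_pos_iff]
    exact ⟨⟨l, h2⟩, 0, fun h => hl (congrArg Subtype.val h)⟩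
  omega

end Main

end Five

end K433.Indep
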