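import Mathlib.RingTheory.Ideal.Operations
import Mathlib.Algebra.Polynomial.Roots
import Mathlib.LinearAlgebra.Matrix.ToLin
import Groth.Agent.Cubic.K656.Trilin

set_option autoImplicit false

/-! Values of a trilinear form on `k^m` at vectors with entries in a `k`-algebra. -/

namespace K433.Indep

open K656.Trilin Polynomial

section Ev

variable {k : Type*} [Field k] {m : ℕ}

/-- Value of a trilinear form on `k^m` at vectors with entries in a `k`-algebra. -/
noncomputable def ev (T : (Fin m → k) →ₗ[k] (Fin m → k) →ₗ[k] (Fin m → k) →ₗ[k] k)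
    {R : Type*} [CommRing R] [Algebra k R] (u v w : Fin m → R) : R :=
  ∑ a, ∑ b, ∑ c, T (Pi.single a 1) (Pi.single b 1) (Pi.single c 1) • (u a * v b * w c)

variable (T : (Fin m → k) →ₗ[k] (Fin m → k) →ₗ[k] (Fin m → k) →ₗ[k] k)
variable {R : Type*} [CommRing R] [Algebra k R]

theorem ev_add1 (u u' v w : Fin m → R) : ev T (u + u') v w = ev T u v w + ev T u' v w := by
  simp only [ev, Pi.add_apply, add_mul, smul_add, Finset.sum_add_distrib]

theorem ev_add2 (u v v' w : Fin m → R) : ev T u (v + v') w = ev T u v w + ev T u v' w := by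
  simp only [ev, Pi.add_apply, mul_add, add_mul, smul_add, Finset.sum_add_distrib]

theorem ev_add3 (u v w w' : Fin m → R) : ev T u v (w + w') = ev T u v w + ev T u v w' := by
  simp only [ev, Pi.add_apply, mul_add, smul_add, Finset.sum_add_distrib]

theorem ev_smul1 (r : R) (u v w : Fin m → R) : ev T (r • u) v w = r * ev T u v w := by
  simp only [ev, Pi.smul_apply, smul_eq_mul, Finset.mul_sum, Algebra.smul_def]
  refine Finset.sum_congr rfl fun a _ => Finset.sum_congr rfl fun b _ =>
    Finset.sum_congr rfl fun c _ => ?_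
  ring

theorem ev_smul2 (r : R) (u v w : Fin m → R) : ev T u (r • v) w = r * ev T u v w := by
  simp only [ev, Pi.smul_apply, smul_eq_mul, Finset.mul_sum, Algebra.smul_def]
  refine Finset.sum_congr rfl fun a _ => Finset.sum_congr rfl fun b _ =>
    Finset.sum_congr rfl fun c _ => ?_
  ring

theorem ev_smul3 (r : R) (u v w : Fin m → R) : ev T u v (r • w) = r * ev T u v w := by
  simp only [ev, Pi.smul_apply, smul_eq_mul, Finset.mul_sum, Algebra.smul_def]
  refine Finset.sum_congr rfl fun a _ => Finset.sum_congr rfl fun b _ =>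
    Finset.sum_congr rfl fun c _ => ?_
  ring

variable {T}

theorem ev_s12 (hT : IsSym3 T) (u v w : Fin m → R) : ev T u v w = ev T v u w := by
  simp only [ev]
  rw [Finset.sum_comm]
  refine Finset.sum_congr rfl fun a _ => Finset.sum_congr rfl fun b _ =>
    Finset.sum_congr rfl fun c _ => ?_
  rw [hT.s12, mul_comm (u b)]

theorem ev_s23 (hT : IsSym3 T) (u v w : Fin m → R) : ev T u v w = ev T u w v := by
  simp only [ev]
  refine Finset.sum_congr rfl fun a _ => ?_
  rw [Finset.sum_comm]
  refine Finset.sum_congr rfl fun b _ => Finset.sum_congr rfl fun c _ => ?_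
  rw [hT.s23, mul_right_comm]

variable (T)

theorem map_ev {R' : Type*} [CommRing R'] [Algebra k R'] (g : R →ₐ[k] R') (u v w : Fin m → R) :
    g (ev T u v w) = ev T (fun j => g (u j)) (fun j => g (v j)) (fun j => g (w j)) := by
  simp only [ev, map_sum, map_smul, map_mul]

theorem ev_mem3 {J : Ideal R} (u v w : Fin m → R) (hw : ∀ c, w c ∈ J) : ev T u v w ∈ J := by
  refine Ideal.sum_mem _ fun a _ => Ideal.sum_mem _ fun b _ => Ideal.sum_mem _ fun c _ => ?_
  rw [Algebra.smul_def]
  exact J.mul_mem_left _ (J.mul_mem_left _ (hw c))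

theorem ev_mem23 {J J' : Ideal R} (u v w : Fin m → R) (hv : ∀ c, v c ∈ J) (hw : ∀ c, w c ∈ J') :
    ev T u v w ∈ J * J' := by
  refine Ideal.sum_mem _ fun a _ => Ideal.sum_mem _ fun b _ => Ideal.sum_mem _ fun c _ => ?_
  rw [Algebra.smul_def, mul_assoc]
  exact Ideal.mul_mem_left _ _ (Ideal.mul_mem_left _ _ (Ideal.mul_mem_mul (hv b) (hw c)))

theorem ev_eq_sum_single (u v w : Fin m → R) :
    ev T u v w = ∑ c, ev T u v (Pi.single c 1) * w c := by
  have e1 : w = ∑ c, w c • (Pi.single c (1 : R) : Fin m → R) := by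
    funext j
    simp [Finset.sum_apply, Pi.single_apply]
  have e2 : ∀ (s : Finset (Fin m)) (z : Fin m → Fin m → R),
      ev T u v (∑ c ∈ s, z c) = ∑ c ∈ s, ev T u v (z c) := by
    intro s z
    classical
    induction s using Finset.induction_on with
    | empty => simp [ev]
    | insert a s ha ih => rw [Finset.sum_insert ha, ev_add3, ih, Finset.sum_insert ha]
  conv_lhs => rw [e1]
  rw [e2]
  refine Finset.sum_congr rfl fun c _ => ?_
  rw [ev_smul3, mul_comm]

/-- If all `T(u,v,e_c)` are in `J` and the entries of `w` are in `J'` then `T(u,v,w) ∈ J J'`. -/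
theorem ev_mem_of_single {J J' : Ideal R} (u v w : Fin m → R)
    (h : ∀ c, ev T u v (Pi.single c 1) ∈ J) (hw : ∀ c, w c ∈ J') : ev T u v w ∈ J * J' := by
  rw [ev_eq_sum_single]
  exact Ideal.sum_mem _ fun c _ => Ideal.mul_mem_mul (h c) (hw c)

theorem ev_mem_of_single' {J : Ideal R} (u v w : Fin m → R)
    (h : ∀ c, ev T u v (Pi.single c 1) ∈ J) : ev T u v w ∈ J := by
  rw [ev_eq_sum_single]
  exact Ideal.sum_mem _ fun c _ => J.mul_mem_right _ (h c)

theorem ev_const (u v w : Fin m → k) : ev T u v w = T u v w := by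
  have e1 : ∀ w : Fin m → k, w = ∑ c, w c • (Pi.single c (1 : k) : Fin m → k) := by
    intro w; funext j
    simp [Finset.sum_apply, Pi.single_apply]
  have h1 : T u v w = ∑ a, u a * T (Pi.single a 1) v w := by
    conv_lhs => rw [e1 u]
    simp only [map_sum, map_smul, LinearMap.sum_apply, LinearMap.smul_apply, smul_eq_mul]
  have h2 : ∀ x : Fin m → k, T x v w = ∑ b, v b * T x (Pi.single b 1) w := by
    intro x
    conv_lhs => rw [e1 v]
    simp only [map_sum, map_smul, LinearMap.sum_apply, LinearMap.smul_apply, smul_eq_mul]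
  have h3 : ∀ x y : Fin m → k, T x y w = ∑ c, w c * T x y (Pi.single c 1) := by
    intro x y
    conv_lhs => rw [e1 w]
    simp only [map_sum, map_smul, smul_eq_mul]
  rw [h1, ev]
  refine Finset.sum_congr rfl fun a _ => ?_
  rw [h2, Finset.mul_sum]
  refine Finset.sum_congr rfl fun b _ => ?_
  rw [h3, Finset.mul_sum, Finset.mul_sum]
  refine Finset.sum_congr rfl fun c _ => ?_
  rw [smul_eq_mul]; ring

theorem ev_algebraMap (u v w : Fin m → k) :
    ev T (fun j => algebraMap k R (u j)) (fun j => algebraMap k R (v j))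
      (fun j => algebraMap k R (w j)) = algebraMap k R (T u v w) := by
  rw [← ev_const T u v w]
  exact (map_ev T (Algebra.ofId k R) u v w).symm

/-- Degree of the value at polynomials. -/
theorem natDegree_ev_le {a b c : ℕ} (u v w : Fin m → k[X]) (hu : ∀ j, (u j).natDegree ≤ a)
    (hv : ∀ j, (v j).natDegree ≤ b) (hw : ∀ j, (w j).natDegree ≤ c) :
    (ev T u v w).natDegree ≤ a + b + c := by
  unfold ev
  refine natDegree_sum_le_of_forall_le _ _ fun i _ => natDegree_sum_le_of_forall_le _ _ fun j _ =>
    natDegree_sum_le_of_forall_le _ _ fun l _ => ?_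
  refine (natDegree_smul_le _ _).trans ?_
  refine natDegree_mul_le.trans ?_
  have := (natDegree_mul_le (p := u i) (q := v j))
  have h1 := hu i; have h2 := hv j; have h3 := hw l
  omega

/-- Leading coefficient of the value at polynomials. -/
theorem coeff_ev {a b c : ℕ} (u v w : Fin m → k[X]) (hu : ∀ j, (u j).natDegree ≤ a)
    (hv : ∀ j, (v j).natDegree ≤ b) (hw : ∀ j, (w j).natDegree ≤ c) :
    (ev T u v w).coeff (a + b + c) =
      T (fun j => (u j).coeff a) (fun j => (v j).coeff b) (fun j => (w j).coeff c) := by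
  rw [← ev_const]
  unfold ev
  simp only [finsetSum_coeff, coeff_smul]
  refine Finset.sum_congr rfl fun i _ => Finset.sum_congr rfl fun j _ =>
    Finset.sum_congr rfl fun l _ => ?_
  rw [coeff_mul_add_eq_of_natDegree_le (natDegree_mul_le.trans (add_le_add (hu i) (hv j)))
    (hw l), coeff_mul_add_eq_of_natDegree_le (hu i) (hv j)]

end Ev

end K433.Indep
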