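import Mathlib.RingTheory.Ideal.Quotient.Operations
import Mathlib.RingTheory.Polynomial.DegreeLT
import Mathlib.LinearAlgebra.Dual.Lemmas
import Mathlib.LinearAlgebra.FiniteDimensional.Lemmas
import Mathlib.Algebra.Module.Submodule.Map
import Groth.Agent.Fano.K433.IndepEv

set_option autoImplicit false

/-! The algebraic core: a nondegenerate functional on an algebra `P/I` of dimension `d ≤ 5` killing
the entries of a vector `φ`, where `T(φ,φ,φ) ∈ I²` and `T(φ,φ,·) ∈ I`. -/

namespace K433.Indep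

open K656.Trilin Polynomial

section Core

variable {k : Type*} [Field k] {m : ℕ}
variable {P : Type*} [CommRing P] [Algebra k P]

/-- `y` generates `P / I` (of dimension `d`) and the powers `1, …, y^(2d-1)` are independent
modulo `I²`. -/
structure Good (I : Ideal P) (d : ℕ) (y : P) : Prop where
  one : ∀ p : k[X], p.natDegree < d → aeval y p ∈ I → p = 0
  two : ∀ p : k[X], p.natDegree < 2 * d → aeval y p ∈ I * I → p = 0

/-- Descent of a linear map along a surjection, over a field. -/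
theorem exists_descend {M N L : Type*} [AddCommGroup M] [AddCommGroup N] [AddCommGroup L]
    [Module k M] [Module k N] [Module k L] (f : M →ₗ[k] N) (hf : Function.Surjective f)
    (g : M →ₗ[k] L) (hg : ∀ x, f x = 0 → g x = 0) : ∃ g' : N →ₗ[k] L, ∀ x, g' (f x) = g x := by
  obtain ⟨s, hs⟩ := f.exists_rightInverse_of_surjective (LinearMap.range_eq_top.2 hf)
  refine ⟨g ∘ₗ s, fun x => ?_⟩
  have e : f (s (f x) - x) = 0 := by
    rw [map_sub, sub_eq_zero]
    exact LinearMap.congr_fun hs (f x)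
  have := hg _ e
  rw [map_sub, sub_eq_zero] at this
  exact this

variable {I : Ideal P} {d : ℕ}

/-- The identification of `P / I` with the polynomials of degree `< d`. -/
theorem exists_equiv {y : P} (hy : Good (k := k) I d y) (hd : 0 < d)
    (hI : Module.finrank k (P ⧸ I) = d) :
    ∃ e : Polynomial.degreeLT k d ≃ₗ[k] (P ⧸ I), ∀ p : Polynomial.degreeLT k d,
      e p = Ideal.Quotient.mk I (aeval y p.1) := by
  have : FiniteDimensional k (P ⧸ I) := Module.finite_of_finrank_pos (by omega)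
  let ψ : Polynomial.degreeLT k d →ₗ[k] (P ⧸ I) :=
    ((Ideal.Quotient.mkₐ k I).toLinearMap ∘ₗ (aeval y : k[X] →ₐ[k] P).toLinearMap) ∘ₗ
      (Polynomial.degreeLT k d).subtype
  have hψ : Function.Injective ψ := by
    rw [← LinearMap.ker_eq_bot, LinearMap.ker_eq_bot']
    rintro ⟨p, hp⟩ h
    have h1 : aeval y p ∈ I := Ideal.Quotient.eq_zero_iff_mem.1 h
    have h2 : p.natDegree < d := by
      rw [mem_degreeLT] at hp
      rcases eq_or_ne p 0 with h0 | h0
      · simpa [h0] using hd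
      · exact (natDegree_lt_iff_degree_lt h0).2 hp
    exact Subtype.ext (hy.one p h2 h1)
  have hfr : Module.finrank k (Polynomial.degreeLT k d) = Module.finrank k (P ⧸ I) := by
    rw [hI, LinearEquiv.finrank_eq (degreeLTEquiv k d), Module.finrank_fin_fun]
  have : FiniteDimensional k (Polynomial.degreeLT k d) :=
    Module.Finite.equiv (degreeLTEquiv k d).symm
  exact ⟨LinearEquiv.ofBijective ψ ⟨hψ,
    (LinearMap.injective_iff_surjective_of_finrank_eq_finrank hfr).1 hψ⟩, fun p => rfl⟩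

/-- The Lagrange type interpolation of a functional. -/
theorem exists_gamma {y : P} (hy : Good (k := k) I d y) (hd : 2 ≤ d)
    (hI : Module.finrank k (P ⧸ I) = d) (lam : P →ₗ[k] k) (hlI : ∀ x ∈ I, lam x = 0)
    (φ : Fin m → P) (hφ : ∀ j, lam (φ j) = 0) :
    ∃ (u : P) (γ : Fin m → k[X]), (∀ j, (γ j).natDegree ≤ d - 2) ∧
      (∀ j, aeval y (γ j) - u * φ j ∈ I) ∧ ∀ j, (γ j).coeff (d - 2) = lam (y * φ j) := by
  obtain ⟨e, he⟩ := exists_equiv hy (by omega) hI
  have : FiniteDimensional k (P ⧸ I) := Module.finite_of_finrank_pos (by omega)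
  have hdeg : ∀ p : Polynomial.degreeLT k d, p.1.natDegree < d := by
    rintro ⟨p, hp⟩
    rw [mem_degreeLT] at hp
    rcases eq_or_ne p 0 with h0 | h0
    · simpa [h0] using (by omega : 0 < d)
    · exact (natDegree_lt_iff_degree_lt h0).2 hp
  have hmem : ∀ p : k[X], p.natDegree < d → p ∈ Polynomial.degreeLT k d := by
    intro p hp
    rw [mem_degreeLT]
    exact lt_of_le_of_lt degree_le_natDegree (by exact_mod_cast hp)
  -- the functional of the coefficient of `y ^ (d - 1)`
  let ly : (P ⧸ I) →ₗ[k] k := (lcoeff k (d - 1) ∘ₗ (Polynomial.degreeLT k d).subtype) ∘ₗ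
    e.symm.toLinearMap
  have hly : ∀ p : k[X], p.natDegree < d →
      ly (Ideal.Quotient.mk I (aeval y p)) = p.coeff (d - 1) := by
    intro p hp
    have h1 : e ⟨p, hmem p hp⟩ = Ideal.Quotient.mk I (aeval y p) := he _
    have h2 : e.symm (Ideal.Quotient.mk I (aeval y p)) = ⟨p, hmem p hp⟩ := by
      rw [← h1, LinearEquiv.symm_apply_apply]
    change (lcoeff k (d - 1)) ((e.symm (Ideal.Quotient.mk I (aeval y p))).1) = _
    rw [h2]
    rfl
  -- the pairing
  let B : (P ⧸ I) →ₗ[k] Module.Dual k (P ⧸ I) :=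
    (LinearMap.mul k (P ⧸ I)).compr₂ ly
  have hB : ∀ a b, B a b = ly (a * b) := fun a b => rfl
  have hBinj : Function.Injective B := by
    rw [← LinearMap.ker_eq_bot, LinearMap.ker_eq_bot']
    intro a ha
    by_contra hne
    have hp0 : (e.symm a).1 ≠ 0 := by
      intro h
      apply hne
      have : e.symm a = 0 := Subtype.ext h
      rw [← e.apply_symm_apply a, this, map_zero]
    set p := (e.symm a).1 with hp
    have hpd := hdeg (e.symm a)
    rw [← hp] at hpd
    have ea : a = Ideal.Quotient.mk I (aeval y p) := by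
      rw [← he, LinearEquiv.apply_symm_apply]
    have h1 : B a (Ideal.Quotient.mk I (aeval y (X ^ (d - 1 - p.natDegree) : k[X]))) = 0 := by
      rw [ha]; rfl
    rw [hB, ea, ← map_mul, ← map_mul] at h1
    have hnd : (p * X ^ (d - 1 - p.natDegree)).natDegree = d - 1 := by
      rw [natDegree_mul hp0 (pow_ne_zero _ X_ne_zero), natDegree_X_pow]; omega
    rw [hly _ (by rw [hnd]; omega)] at h1
    have h2 : (p * X ^ (d - 1 - p.natDegree)).leadingCoeff = 0 := by
      rw [leadingCoeff, hnd, h1]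
    rw [leadingCoeff_eq_zero] at h2
    exact (mul_ne_zero hp0 (pow_ne_zero _ X_ne_zero)) h2
  have hBsurj : Function.Surjective B :=
    (LinearMap.injective_iff_surjective_of_finrank_eq_finrank
      (Subspace.dual_finrank_eq (K := k) (V := P ⧸ I)).symm).1 hBinj
  obtain ⟨lb, hlb⟩ := exists_descend (Ideal.Quotient.mkₐ k I).toLinearMap
    (Ideal.Quotient.mkₐ_surjective k I) lam (fun x hx => hlI x (Ideal.Quotient.eq_zero_iff_mem.1 hx))
  obtain ⟨ub, hub⟩ := hBsurj lb
  obtain ⟨u, rfl⟩ := Ideal.Quotient.mk_surjective ub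
  have hu : ∀ a : P, ly (Ideal.Quotient.mk I (u * a)) = lam a := by
    intro a
    rw [map_mul, ← hB, hub]
    exact hlb a
  let γ : Fin m → k[X] := fun j => (e.symm (Ideal.Quotient.mk I (u * φ j))).1
  have hγd : ∀ j, (γ j).natDegree < d := fun j => hdeg _
  have hγ : ∀ j, Ideal.Quotient.mk I (aeval y (γ j)) = Ideal.Quotient.mk I (u * φ j) := by
    intro j
    change Ideal.Quotient.mk I (aeval y (e.symm (Ideal.Quotient.mk I (u * φ j))).1) = _
    rw [← he, LinearEquiv.apply_symm_apply]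
  have hc0 : ∀ j, (γ j).coeff (d - 1) = 0 := by
    intro j
    rw [← hly _ (hγd j), hγ, hu, hφ]
  have hγ2 : ∀ j, (γ j).natDegree ≤ d - 2 := by
    intro j
    by_contra h
    have h1 : (γ j).natDegree = d - 1 := by have := hγd j; omega
    have h2 : (γ j).leadingCoeff = 0 := by rw [leadingCoeff, h1, hc0]
    rw [leadingCoeff_eq_zero] at h2
    rw [h2, natDegree_zero] at h1
    omega
  refine ⟨u, γ, hγ2, fun j => ?_, fun j => ?_⟩
  · exact Ideal.Quotient.eq.1 (hγ j)
  · have h1 : Ideal.Quotient.mk I (aeval y (X * γ j)) = Ideal.Quotient.mk I (u * (y * φ j)) := by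
      rw [map_mul, aeval_X, map_mul, hγ, ← map_mul]
      congr 1; ring
    rw [← hu (y * φ j), ← h1, hly]
    · have : d - 1 = d - 2 + 1 := by omega
      rw [this, coeff_X_mul]
    · refine lt_of_le_of_lt natDegree_mul_le ?_
      have := hγ2 j
      have h3 := natDegree_X_le (R := k)
      omega

variable {T : (Fin m → k) →ₗ[k] (Fin m → k) →ₗ[k] (Fin m → k) →ₗ[k] k}

/-- For a good element `y` the vector `λ(y φ)` is a zero of the cubic form. -/
theorem cube_of_good (hT : IsSym3 T) {y : P} (hy : Good (k := k) I d y) (hd : 2 ≤ d) (hd5 : d ≤ 5)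
    (hI : Module.finrank k (P ⧸ I) = d) (lam : P →ₗ[k] k) (hlI : ∀ x ∈ I, lam x = 0)
    (φ : Fin m → P) (hφ : ∀ j, lam (φ j) = 0) (h3 : ev T φ φ φ ∈ I * I)
    (h2 : ∀ c, ev T φ φ (Pi.single c 1) ∈ I) :
    T (fun j => lam (y * φ j)) (fun j => lam (y * φ j)) (fun j => lam (y * φ j)) = 0 := by
  obtain ⟨u, γ, hγ, hγI, hγc⟩ := exists_gamma hy hd hI lam hlI φ hφ
  have key : aeval y (ev T γ γ γ) ∈ I * I := by
    rw [map_ev]
    set ε : Fin m → P := fun j => aeval y (γ j) - u * φ j with hε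
    have e1 : (fun j => aeval y (γ j)) = u • φ + ε := by
      funext j; simp [hε]
    rw [e1]
    have h23 : ev T φ φ ε ∈ I * I := ev_mem_of_single T _ _ _ h2 hγI
    have e2 : ev T (u • φ + ε) (u • φ + ε) (u • φ + ε) =
        u ^ 3 * ev T φ φ φ + 3 * u ^ 2 * ev T φ φ ε + 3 * u * ev T φ ε ε + ev T ε ε ε := by
      simp only [ev_add1, ev_add2, ev_add3, ev_smul1, ev_smul2, ev_smul3]
      rw [ev_s12 hT ε φ φ, ev_s23 hT φ ε φ, ev_s12 hT ε φ ε, ev_s23 hT ε ε φ, ev_s12 hT ε φ ε]
      ring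
    rw [e2]
    refine Ideal.add_mem _ (Ideal.add_mem _ (Ideal.add_mem _ ?_ ?_) ?_) ?_
    · exact Ideal.mul_mem_left _ _ h3
    · exact Ideal.mul_mem_left _ _ h23
    · exact Ideal.mul_mem_left _ _ (ev_mem23 T _ _ _ hγI hγI)
    · exact ev_mem23 T _ _ _ hγI hγI
  have h0 : ev T γ γ γ = 0 := by
    refine hy.two _ ?_ key
    refine lt_of_le_of_lt (natDegree_ev_le T γ γ γ hγ hγ hγ) ?_
    omega
  have h4 := coeff_ev T γ γ γ hγ hγ hγ
  rw [h0, coeff_zero] at h4
  simp only [hγc] at h4
  exact h4.symm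

/-- For a good element `y` and `d ≤ 3` the vector `λ(y φ)` is a zero of the gradient. -/
theorem sq_of_good (hT : IsSym3 T) {y : P} (hy : Good (k := k) I d y) (hd : 2 ≤ d) (hd5 : d ≤ 3)
    (hI : Module.finrank k (P ⧸ I) = d) (lam : P →ₗ[k] k) (hlI : ∀ x ∈ I, lam x = 0)
    (φ : Fin m → P) (hφ : ∀ j, lam (φ j) = 0)
    (h2 : ∀ c, ev T φ φ (Pi.single c 1) ∈ I) (w : Fin m → k) :
    T (fun j => lam (y * φ j)) (fun j => lam (y * φ j)) w = 0 := by
  obtain ⟨u, γ, hγ, hγI, hγc⟩ := exists_gamma hy hd hI lam hlI φ hφ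
  have hw : ∀ j, ((fun j => C (w j)) j : k[X]).natDegree ≤ 0 := fun j => by simp
  have key : aeval y (ev T γ γ (fun j => C (w j))) ∈ I := by
    rw [map_ev]
    set ε : Fin m → P := fun j => aeval y (γ j) - u * φ j with hε
    have e1 : (fun j => aeval y (γ j)) = u • φ + ε := by
      funext j; simp [hε]
    rw [e1]
    have h23 : ∀ w : Fin m → P, ev T φ φ w ∈ I := fun w => ev_mem_of_single' T φ φ w h2
    have e2 : ∀ w : Fin m → P, ev T (u • φ + ε) (u • φ + ε) w =
        u ^ 2 * ev T φ φ w + 2 * u * ev T φ w ε + ev T ε w ε := by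
      intro w
      simp only [ev_add1, ev_add2, ev_smul1, ev_smul2]
      rw [ev_s12 hT ε φ w, ev_s23 hT φ ε w, ev_s23 hT ε ε w]
      ring
    rw [e2]
    refine Ideal.add_mem _ (Ideal.add_mem _ ?_ ?_) ?_
    · exact Ideal.mul_mem_left _ _ (h23 _)
    · exact Ideal.mul_mem_left _ _ (ev_mem3 T _ _ _ hγI)
    · exact ev_mem3 T _ _ _ hγI
  have h0 : ev T γ γ (fun j => C (w j)) = 0 := by
    refine hy.one _ ?_ key
    refine lt_of_le_of_lt (natDegree_ev_le T γ γ _ hγ hγ hw) ?_
    omega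
  have h4 := coeff_ev T γ γ (fun j => C (w j)) hγ hγ hw
  rw [h0, coeff_zero] at h4
  simp only [hγc, coeff_C_zero] at h4
  exact h4.symm

/-- Density: the leading coefficient of a cubic in `r` with infinitely many zeros. -/
theorem cube_of_infinite [Infinite k] (hT : IsSym3 T) (u v : Fin m → k)
    (h : {r : k | ¬ (T (u + r • v) (u + r • v) (u + r • v) = 0)}.Finite) : T v v v = 0 := by
  let p : k[X] := C (T u u u) + C (3 * T u u v) * X + C (3 * T u v v) * X ^ 2 + C (T v v v) * X ^ 3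
  have hp : ∀ r, p.eval r = T (u + r • v) (u + r • v) (u + r • v) := by
    intro r
    rw [hT.cube_add_smul]
    simp only [p, eval_add, eval_mul, eval_C, eval_X, eval_pow]
    ring
  have h0 : p = 0 := by
    refine eq_zero_of_infinite_isRoot p ?_
    have := h.infinite_compl
    refine this.mono fun r hr => ?_
    simp only [Set.mem_compl_iff, Set.mem_ofPred_eq, not_not] at hr
    change p.eval r = 0
    rw [hp, hr]
  have h3 : p.coeff 3 = T v v v := by
    simp only [p, coeff_add, coeff_C_mul, coeff_X_pow, coeff_X, coeff_C]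
    norm_num
  rw [← h3, h0, coeff_zero]

theorem sq_of_infinite [Infinite k] (hT : IsSym3 T) (u v w : Fin m → k)
    (h : {r : k | ¬ (T (u + r • v) (u + r • v) w = 0)}.Finite) : T v v w = 0 := by
  let p : k[X] := C (T u u w) + C (2 * T u v w) * X + C (T v v w) * X ^ 2
  have hp : ∀ r, p.eval r = T (u + r • v) (u + r • v) w := by
    intro r
    rw [hT.sq_add_smul]
    simp only [p, eval_add, eval_mul, eval_C, eval_X, eval_pow]
    ring
  have h0 : p = 0 := by
    refine eq_zero_of_infinite_isRoot p ?_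
    have := h.infinite_compl
    refine this.mono fun r hr => ?_
    simp only [Set.mem_compl_iff, Set.mem_ofPred_eq, not_not] at hr
    change p.eval r = 0
    rw [hp, hr]
  have h3 : p.coeff 2 = T v v w := by
    simp only [p, coeff_add, coeff_C_mul, coeff_X_pow, coeff_X, coeff_C]
    norm_num
  rw [← h3, h0, coeff_zero]

/-- The linear map `c ↦ λ(c φ)`. -/
noncomputable def vec (lam : P →ₗ[k] k) (φ : Fin m → P) : P →ₗ[k] (Fin m → k) :=
  LinearMap.pi fun j => lam ∘ₗ (LinearMap.mul k P).flip (φ j)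

theorem vec_apply (lam : P →ₗ[k] k) (φ : Fin m → P) (c : P) (j : Fin m) :
    vec lam φ c j = lam (c * φ j) := rfl

theorem vec_add_smul (lam : P →ₗ[k] k) (φ : Fin m → P) (x c : P) (r : k) :
    (fun j => lam ((x + r • c) * φ j)) = vec lam φ x + r • vec lam φ c := by
  rw [← map_smul, ← map_add]; rfl

/-- The cubic form vanishes on the image of `vec`. -/
theorem cube_vec [Infinite k] (hT : IsSym3 T) (hd : 2 ≤ d) (hd5 : d ≤ 5)
    (hI : Module.finrank k (P ⧸ I) = d) (lam : P →ₗ[k] k) (hlI : ∀ x ∈ I, lam x = 0)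
    (φ : Fin m → P) (hφ : ∀ j, lam (φ j) = 0) (h3 : ev T φ φ φ ∈ I * I)
    (h2 : ∀ c, ev T φ φ (Pi.single c 1) ∈ I)
    (x : P) (hx : ∀ c : P, {r : k | ¬ Good (k := k) I d (x + r • c)}.Finite) (c : P) :
    T (vec lam φ c) (vec lam φ c) (vec lam φ c) = 0 := by
  refine cube_of_infinite hT (vec lam φ x) _ ((hx c).subset fun r hr hg => hr ?_)
  rw [← vec_add_smul]
  exact cube_of_good hT hg hd hd5 hI lam hlI φ hφ h3 h2

theorem sq_vec [Infinite k] (hT : IsSym3 T) (hd : 2 ≤ d) (hd5 : d ≤ 3)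
    (hI : Module.finrank k (P ⧸ I) = d) (lam : P →ₗ[k] k) (hlI : ∀ x ∈ I, lam x = 0)
    (φ : Fin m → P) (hφ : ∀ j, lam (φ j) = 0)
    (h2 : ∀ c, ev T φ φ (Pi.single c 1) ∈ I)
    (x : P) (hx : ∀ c : P, {r : k | ¬ Good (k := k) I d (x + r • c)}.Finite) (c : P)
    (w : Fin m → k) :
    T (vec lam φ c) (vec lam φ c) w = 0 := by
  refine sq_of_infinite hT (vec lam φ x) _ w ((hx c).subset fun r hr hg => hr ?_)
  rw [← vec_add_smul]
  exact sq_of_good hT hg hd hd5 hI lam hlI φ hφ h2 w

/-- The image of `vec` has dimension `d - 1`. -/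
theorem finrank_range_vec (hd : 0 < d)
    (hI : Module.finrank k (P ⧸ I) = d) (lam : P →ₗ[k] k) (hlI : ∀ x ∈ I, lam x = 0)
    (hnd : ∀ a : P, (∀ b, lam (a * b) = 0) → a ∈ I)
    (φ : Fin m → P) (hφ : ∀ j, lam (φ j) = 0)
    (hW : ∀ a, lam a = 0 → ∃ c : Fin m → k, a - ∑ j, c j • φ j ∈ I) :
    Module.finrank k (LinearMap.range (vec lam φ)) + 1 = d := by
  have : FiniteDimensional k (P ⧸ I) := Module.finite_of_finrank_pos (by omega)
  have h1I : (1 : P) ∉ I := by
    intro h
    have : Subsingleton (P ⧸ I) := Ideal.Quotient.subsingleton_iff.2 ((Ideal.eq_top_iff_one I).2 h)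
    have h0 := Module.finrank_zero_of_subsingleton (R := k) (M := P ⧸ I)
    omega
  obtain ⟨a0, ha0⟩ : ∃ a0, lam a0 ≠ 0 := by
    by_contra h
    push Not at h
    exact h1I (hnd 1 fun b => h _)
  have hker : ∀ c : P, vec lam φ c = 0 → ∃ r : k, c - r • 1 ∈ I := by
    intro c hc
    have h1 : ∀ a, lam a = 0 → lam (c * a) = 0 := by
      intro a ha
      obtain ⟨t, ht⟩ := hW a ha
      have e : c * a = c * (a - ∑ j, t j • φ j) + ∑ j, t j • (c * φ j) := by
        rw [mul_sub, Finset.mul_sum]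
        simp only [mul_smul_comm]
        ring
      rw [e, map_add, hlI _ (I.mul_mem_left _ ht), zero_add, map_sum]
      refine Finset.sum_eq_zero fun j _ => ?_
      rw [map_smul, ← vec_apply, hc, Pi.zero_apply, smul_zero]
    refine ⟨lam (c * a0) / lam a0, hnd _ fun b => ?_⟩
    have h2 := h1 (b - (lam b / lam a0) • a0) (by
      rw [map_sub, map_smul, smul_eq_mul, div_mul_cancel₀ _ ha0, sub_self])
    rw [mul_sub, map_sub, sub_eq_zero, mul_smul_comm, map_smul, smul_eq_mul] at h2
    rw [sub_mul, map_sub, h2, smul_mul_assoc, one_mul, map_smul, smul_eq_mul]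
    field_simp
    ring
  obtain ⟨g, hg⟩ := exists_descend (Ideal.Quotient.mkₐ k I).toLinearMap
    (Ideal.Quotient.mkₐ_surjective k I) (vec lam φ) (fun x hx => by
      funext j
      rw [vec_apply]
      exact hlI _ (I.mul_mem_right _ (Ideal.Quotient.eq_zero_iff_mem.1 hx)))
  have hr : LinearMap.range g = LinearMap.range (vec lam φ) := by
    apply le_antisymm
    · rintro _ ⟨a, rfl⟩
      obtain ⟨b, rfl⟩ := Ideal.Quotient.mk_surjective a
      exact ⟨b, (hg b).symm⟩
    · rintro _ ⟨a, rfl⟩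
      exact ⟨_, hg a⟩
  have hk : LinearMap.ker g = Submodule.span k {(1 : P ⧸ I)} := by
    apply le_antisymm
    · intro a ha
      obtain ⟨b, rfl⟩ := Ideal.Quotient.mk_surjective a
      obtain ⟨r, hr⟩ := hker b (by rw [← hg b]; exact ha)
      rw [Submodule.mem_span_singleton]
      refine ⟨r, ?_⟩
      have := Ideal.Quotient.eq.2 hr
      rw [this]
      exact ((Ideal.Quotient.mkₐ k I).toLinearMap.map_smul r 1).symm
    · rw [Submodule.span_le, Set.singleton_subset_iff]
      change g 1 = 0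
      have e : g ((Ideal.Quotient.mkₐ k I).toLinearMap 1) = vec lam φ 1 := hg 1
      have e1 : (Ideal.Quotient.mkₐ k I).toLinearMap 1 = 1 := rfl
      rw [e1] at e
      rw [e]
      funext j
      rw [vec_apply, one_mul, hφ]; rfl
  have h1 : (1 : P ⧸ I) ≠ 0 := by
    intro h
    exact h1I (Ideal.Quotient.eq_zero_iff_mem.1 (by rw [map_one]; exact h))
  have := g.finrank_range_add_finrank_ker
  rw [hr, hk, finrank_span_singleton h1, hI] at this
  exact this

end Core

end K433.Indep
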