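import Groth.Agent.Fano.K433.IndepFive
import Groth.Agent.Fano.K972.GradDer

set_option autoImplicit false

/-!
# Independent conditions: form with directional derivatives

`sur_five_dir`: as `K433.Indep.sur_five`, the input is `T(φ_i, φ_i, w) ∈ m_i^{δ_i}` for all constant vectors `w`
in the hyperplane; `sur_dir`: the same in terms of polynomials and of ring homomorphisms `k → O_i`.
-/

universe u

namespace K433.Indep

open K656.Trilin IsLocalRing Module

section Poly

variable {k : Type u} [Field k] [CharZero k] {n : ℕ} {R : Type*} [CommRing R] [Algebra k R]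

open MvPolynomial in
theorem ev_tri_self {f : MvPolynomial (Fin n) k} (hf : f.IsHomogeneous 3) (φ : Fin n → R) :
    ev (tri f) φ φ φ = aeval φ f := by
  have : Infinite k := Infinite.of_injective (fun n : ℕ => (n : k)) Nat.cast_injective
  have h : ev (tri f) (X : Fin n → MvPolynomial (Fin n) k) X X = f := by
    refine MvPolynomial.funext fun x => ?_
    have := map_ev (tri f) (aeval x : MvPolynomial (Fin n) k →ₐ[k] k) X X X
    have e : ∀ p : MvPolynomial (Fin n) k, eval x p = aeval x p := fun p => rfl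
    rw [e, this]
    simp only [aeval_X]
    rw [ev_const, tri_diag hf]
  have h2 := map_ev (tri f) (aeval φ : MvPolynomial (Fin n) k →ₐ[k] R) X X X
  rw [h] at h2
  simp only [aeval_X] at h2
  exact h2.symm

open MvPolynomial in
theorem ev_tri_dir {f : MvPolynomial (Fin n) k} (hf : f.IsHomogeneous 3) (φ : Fin n → R) (w : Fin n → k) :
    3 * ev (tri f) φ φ (fun c => algebraMap k R (w c)) = aeval φ (∑ l, C (w l) * pderiv l f) := by
  have : Infinite k := Infinite.of_injective (fun n : ℕ => (n : k)) Nat.cast_injective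
  have h : 3 * ev (tri f) (X : Fin n → MvPolynomial (Fin n) k) X (fun c => C (w c)) =
      ∑ l, C (w l) * pderiv l f := by
    refine MvPolynomial.funext fun x => ?_
    have := map_ev (tri f) (aeval x : MvPolynomial (Fin n) k →ₐ[k] k) X X (fun c => C (w c))
    rw [map_mul, map_ofNat]
    have e : eval x (ev (tri f) (X : Fin n → MvPolynomial (Fin n) k) X fun c => C (w c)) =
        aeval x (ev (tri f) (X : Fin n → MvPolynomial (Fin n) k) X fun c => C (w c)) := rfl
    rw [e, this]
    simp only [aeval_X, aeval_C, Algebra.algebraMap_self, RingHom.id_apply]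
    rw [ev_const, tri_pderiv hf, map_sum]
    refine Finset.sum_congr rfl fun c _ => ?_
    rw [map_mul, eval_C]
  have h2 := map_ev (tri f) (aeval φ : MvPolynomial (Fin n) k →ₐ[k] R) X X (fun c => C (w c))
  rw [← h, map_mul, map_ofNat, h2]
  simp only [aeval_X, aeval_C]

end Poly

section Main

variable {k : Type u} [Field k] [IsAlgClosed k] [CharZero k]
  {T : (Fin 5 → k) →ₗ[k] (Fin 5 → k) →ₗ[k] (Fin 5 → k) →ₗ[k] k}

/-- **G6.** The zero scheme of the gradient of `f|_h` imposes independent conditions. -/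
theorem sur_five_dir (hT : IsSym3 T) (hsm : K714.Surf.SmoothOn T ⊤) (l : Fin 5 → k) (hl : l ≠ 0)
    {ι : Type*} [Fintype ι] {O : ι → Type*} [∀ i, CommRing (O i)]
    [∀ i, IsDomain (O i)] [∀ i, IsDiscreteValuationRing (O i)] [∀ i, Algebra k (O i)]
    (hres : ∀ i (x : O i), ∃ a : k, x - algebraMap k (O i) a ∈ maximalIdeal (O i))
    (φ : ∀ i, Fin 5 → O i) (hl0 : ∀ i, ∑ c, algebraMap k (O i) (l c) * φ i c = 0)
    (h3 : ∀ i, ev T (φ i) (φ i) (φ i) = 0) (δ : ι → ℕ)
    (h2 : ∀ i (w : Fin 5 → k), ∑ c, l c * w c = 0 →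
      ev T (φ i) (φ i) (fun c => algebraMap k (O i) (w c)) ∈ maximalIdeal (O i) ^ δ i)
    (himm : ∀ δ' : ι → ℕ, (∀ i, δ' i ≤ δ i) → ∑ i, δ' i ≤ 2 → Sur k φ δ') : Sur k φ δ := by
  classical
  -- the hyperplane
  let l' : (Fin 5 → k) →ₗ[k] k := ∑ c, l c • LinearMap.proj c
  have hl' : ∀ x, l' x = ∑ c, l c * x c := by
    intro x
    simp [l']
  obtain ⟨q, hq⟩ : ∃ q, l q ≠ 0 := by
    by_contra h
    push Not at h
    exact hl (funext h)
  have hlq : ∀ c, l' (Pi.single c 1) = l c := by
    intro c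
    rw [hl']
    simp [Pi.single_apply]
  let z : Fin 5 → k := (l q)⁻¹ • Pi.single q 1
  have hz : l' z = 1 := by
    simp only [z]
    rw [map_smul, hlq, smul_eq_mul, inv_mul_cancel₀ hq]
  have hl0' : l' ≠ 0 := by
    intro h
    rw [h] at hz
    exact zero_ne_one hz
  let W := LinearMap.ker l'
  have hW : finrank k W = 4 := by
    have h1 := l'.finrank_range_add_finrank_ker
    have h2 : LinearMap.range l' = ⊤ := by
      rw [LinearMap.range_eq_top]
      intro r
      exact ⟨r • z, by rw [map_smul, hz, smul_eq_mul, mul_one]⟩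
    rw [h2, finrank_top, Module.finrank_self, Module.finrank_fin_fun] at h1
    change finrank k (LinearMap.ker l') = 4
    omega
  let b := Module.finBasisOfFinrankEq k W hW
  let B : (Fin 4 → k) →ₗ[k] (Fin 5 → k) := W.subtype ∘ₗ b.equivFun.symm.toLinearMap
  have hBi : Function.Injective B := by
    intro x y hxy
    exact b.equivFun.symm.injective (Subtype.ext hxy)
  have hBW : ∀ x, l' (B x) = 0 := fun x => (b.equivFun.symm x).2
  have hBr : ∀ y, l' y = 0 → ∃ x, B x = y := by
    intro y hy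
    refine ⟨b.equivFun ⟨y, hy⟩, ?_⟩
    change ((b.equivFun.symm (b.equivFun ⟨y, hy⟩) : W) : Fin 5 → k) = y
    rw [LinearEquiv.symm_apply_apply]
  obtain ⟨B', hB'⟩ := B.exists_leftInverse_of_injective (LinearMap.ker_eq_bot.2 hBi)
  have hBB' : ∀ x, B' (B x) = x := fun x => LinearMap.congr_fun hB' x
  let w : Fin 5 → k := z - B (B' z)
  have hw : ∀ x, x - B (B' x) = l' x • w := by
    intro x
    obtain ⟨y, hy⟩ := hBr (x - l' x • z) (by rw [map_sub, map_smul, hz, smul_eq_mul, mul_one, sub_self])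
    have h1 : x = B y + l' x • z := by rw [hy]; abel
    have h2 : B (B' x) = B y + l' x • B (B' z) := by
      conv_lhs => rw [h1]
      rw [map_add, map_add, hBB', map_smul, map_smul]
    have h3 : x - B (B' x) = (B y + l' x • z) - (B y + l' x • B (B' z)) := by rw [← h2, ← h1]
    rw [h3, add_sub_add_left_eq_sub, ← smul_sub]
  -- the coordinates
  let ψ : ∀ i, Fin 4 → O i := fun i => bcL B' (φ i)
  have hψ : ∀ i, φ i = bcL B (ψ i) := by
    intro i
    have h1 : bcL (LinearMap.id - B ∘ₗ B' : (Fin 5 → k) →ₗ[k] (Fin 5 → k)) (φ i) = 0 := by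
      funext c
      have h2 : ∀ j, (LinearMap.id - B ∘ₗ B' : (Fin 5 → k) →ₗ[k] (Fin 5 → k)) (Pi.single j 1) c =
          l j * w c := by
        intro j
        rw [LinearMap.sub_apply, LinearMap.id_apply, LinearMap.comp_apply, hw, hlq, Pi.smul_apply,
          smul_eq_mul]
      simp only [bcL, h2, map_mul]
      have h3 : ∑ j, algebraMap k (O i) (l j) * algebraMap k (O i) (w c) * φ i j =
          algebraMap k (O i) (w c) * ∑ j, algebraMap k (O i) (l j) * φ i j := by
        rw [Finset.mul_sum]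
        exact Finset.sum_congr rfl fun j _ => by ring
      rw [h3, hl0, mul_zero]; rfl
    rw [bcL_sub, bcL_id, bcL_comp, sub_eq_zero] at h1
    exact h1
  refine sur_of_bcL (x := ψ) B' (fun i => rfl) ?_
  refine sur_of (T := pullT T B) (pullT_sym hT B) le_rfl ?_ ?_ hres ψ ?_ δ ?_ ?_
  · intro L hL
    have h1 : 3 ≤ finrank k (L.map B) := by
      rwa [(Submodule.equivMapOfInjective B hBi L).finrank_eq.symm]
    by_contra hcon
    push Not at hcon
    obtain ⟨g, hg⟩ := exists_linearIndependent_of_le_finrank h1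
    have hg' : LinearIndependent k (fun i => (g i : Fin 5 → k)) :=
      hg.map' (L.map B).subtype (L.map B).ker_subtype
    refine K714.TypeConst.no_plane hT (by rw [Module.finrank_fin_fun]) hsm
      (P := Submodule.span k (Set.range fun i => (g i : Fin 5 → k)))
      (by rw [finrank_span_eq_card hg', Fintype.card_fin]) fun v hv => ?_
    have hvL : v ∈ L.map B := by
      refine Submodule.span_le.2 ?_ hv
      rintro _ ⟨i, rfl⟩
      exact (g i).2
    obtain ⟨x, hx, rfl⟩ := hvL
    exact hcon x hx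
  · intro L hL
    obtain ⟨v, hv, w', hw', hne⟩ := no_line hT hsm l' hl0' (L.map B)
      (by rw [(Submodule.equivMapOfInjective B hBi L).finrank_eq.symm, hL])
    obtain ⟨x, hx, rfl⟩ := hv
    obtain ⟨y, rfl⟩ := hBr w' hw'
    exact ⟨x, hx, y, hne⟩
  · intro i
    rw [ev_pullT, ← hψ, h3]
  · intro i c
    rw [ev_pullT, ← hψ]
    have h6 : bcL B (Pi.single c (1 : O i)) = fun d => algebraMap k (O i) (B (Pi.single c 1) d) := by
      funext d
      simp [bcL, Pi.single_apply]
    rw [h6]
    exact h2 i _ (by rw [← hl', hBW])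
  · intro δ' hδ' hs
    exact sur_of_bcL B hψ (himm δ' hδ' hs)


open MvPolynomial in
/-- Form with ring homomorphisms and polynomials. -/
theorem sur_dir {f : MvPolynomial (Fin 5) k} (hf : f.IsHomogeneous 3)
    (hsm : K714.Surf.SmoothOn (tri f) ⊤) (l : Fin 5 → k) (hl : l ≠ 0)
    {ι : Type*} [Fintype ι] {O : ι → Type*} [∀ i, CommRing (O i)]
    [∀ i, IsDomain (O i)] [∀ i, IsDiscreteValuationRing (O i)] (cst : ∀ i, k →+* O i)
    (hres : ∀ i (x : O i), ∃ a : k, x - cst i a ∈ maximalIdeal (O i))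
    (φ : ∀ i, Fin 5 → O i) (hl0 : ∀ i, ∑ c, cst i (l c) * φ i c = 0)
    (h3 : ∀ i, eval₂ (cst i) (φ i) f = 0) (δ : ι → ℕ)
    (h2 : ∀ i (w : Fin 5 → k), ∑ c, l c * w c = 0 →
      eval₂ (cst i) (φ i) (K972.GradDer.dir w f) ∈ maximalIdeal (O i) ^ δ i)
    (himm : ∀ δ' : ι → ℕ, (∀ i, δ' i ≤ δ i) → ∑ i, δ' i ≤ 2 → ∀ g : ∀ i, O i, ∃ c : Fin 5 → k,
      ∀ i, (∑ j, cst i (c j) * φ i j) - g i ∈ maximalIdeal (O i) ^ δ' i) :
    (∀ g : ∀ i, O i, ∃ c : Fin 5 → k,
      ∀ i, (∑ j, cst i (c j) * φ i j) - g i ∈ maximalIdeal (O i) ^ δ i) ∧ ∑ i, δ i ≤ 4 := by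
  let _ : ∀ i, Algebra k (O i) := fun i => (cst i).toAlgebra
  have hsm1 : ∀ i (c : Fin 5 → k), ∑ j, c j • φ i j = ∑ j, cst i (c j) * φ i j := fun i c =>
    Finset.sum_congr rfl fun j _ => Algebra.smul_def _ _
  have hS : Sur k φ δ := by
    refine sur_five_dir (tri_sym f) hsm l hl hres φ hl0 ?_ δ ?_ ?_
    · intro i
      rw [ev_tri_self hf]
      exact h3 i
    · intro i w hw
      have h := h2 i w hw
      have e : eval₂ (cst i) (φ i) (K972.GradDer.dir w f) =
          3 * ev (tri f) (φ i) (φ i) (fun c => algebraMap k (O i) (w c)) := by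
        rw [ev_tri_dir hf]
        rfl
      rw [e] at h
      have h' := Ideal.mul_mem_left _ (algebraMap k (O i) 3⁻¹) h
      rwa [← mul_assoc, show (algebraMap k (O i) 3⁻¹) * 3 = 1 by
        rw [← map_ofNat (algebraMap k (O i)) 3, ← map_mul, inv_mul_cancel₀ (by norm_num), map_one],
        one_mul] at h'
    · intro δ' h1 h2 g
      obtain ⟨c, hc⟩ := himm δ' h1 h2 g
      refine ⟨c, fun i => ?_⟩
      rw [hsm1]
      exact hc i
  refine ⟨fun g => ?_, sum_le_four l hl hres φ hl0 δ hS⟩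
  obtain ⟨c, hc⟩ := hS g
  refine ⟨c, fun i => ?_⟩
  rw [← hsm1]
  exact hc i

end Main

end K433.Indep
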