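import Mathlib.RingTheory.DiscreteValuationRing.Basic
import Mathlib.LinearAlgebra.Basis.VectorSpace
import Groth.Agent.Fano.K433.IndepCore

set_option autoImplicit false

/-! Zero schemes of the gradient of a cubic surface on a product of discrete valuation rings. -/

namespace K433.Indep

open K656.Trilin Polynomial IsLocalRing

section One

variable {k : Type*} [Field k] {R : Type*} [CommRing R] [IsDomain R] [IsDiscreteValuationRing R]
  [Algebra k R]

theorem mem_pow_iff {w : R} (hw : Irreducible w) (n : ℕ) (x : R) :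
    x ∈ maximalIdeal R ^ n ↔ w ^ n ∣ x := by
  rw [hw.maximalIdeal_eq, Ideal.span_singleton_pow, Ideal.mem_span_singleton]

theorem isUnit_algebraMap {a : k} (ha : a ≠ 0) : IsUnit (algebraMap k R a) :=
  (IsUnit.mk0 a ha).map _

/-- The order of a polynomial expression in `b + w`. -/
theorem le_rootMultiplicity {y : R} {b : k} (hy : Irreducible (y - algebraMap k R b)) {p : k[X]}
    (hp : p ≠ 0) {n : ℕ} (h : aeval y p ∈ maximalIdeal R ^ n) : n ≤ p.rootMultiplicity b := by
  obtain ⟨q, hq, hqb⟩ := exists_eq_pow_rootMultiplicity_mul_and_not_dvd p hp b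
  set s := p.rootMultiplicity b
  have hqb' : q.eval b ≠ 0 := fun h => hqb (dvd_iff_isRoot.2 h)
  have hu : IsUnit (aeval y q) := by
    obtain ⟨r, hr⟩ := X_sub_C_dvd_sub_C_eval (a := b) (p := q)
    have e : aeval y q = algebraMap k R (q.eval b) + (y - algebraMap k R b) * aeval y r := by
      have : aeval y (q - C (q.eval b)) = aeval y ((X - C b) * r) := by rw [hr]
      rw [map_sub, aeval_C, map_mul, map_sub, aeval_X, aeval_C] at this
      rw [← this]; ring
    rw [e]
    by_contra hnu
    have h1 : algebraMap k R (q.eval b) ∈ maximalIdeal R := by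
      have h2 : algebraMap k R (q.eval b) + (y - algebraMap k R b) * aeval y r ∈
        maximalIdeal R := (mem_maximalIdeal _).2 hnu
      have h3 : (y - algebraMap k R b) * aeval y r ∈ maximalIdeal R :=
        Ideal.mul_mem_right _ _ ((mem_maximalIdeal _).2 hy.not_isUnit)
      exact (Ideal.add_mem_iff_left _ h3).1 h2
    exact (mem_maximalIdeal _).1 h1 (isUnit_algebraMap hqb')
  rw [hq, map_mul, map_pow, map_sub, aeval_X, aeval_C, mem_pow_iff hy, hu.dvd_mul_right] at h
  exact (pow_dvd_pow_iff hy.ne_zero hy.not_isUnit).1 h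

/-- Expansion in powers of a uniformizer. -/
theorem exists_expand (hres : ∀ x : R, ∃ a : k, x - algebraMap k R a ∈ maximalIdeal R)
    {w : R} (hw : Irreducible w) (x : R) (n : ℕ) :
    ∃ a : Fin n → k, x - ∑ s, a s • w ^ (s : ℕ) ∈ maximalIdeal R ^ n := by
  induction n with
  | zero => exact ⟨Fin.elim0, by simp⟩
  | succ n ih =>
    obtain ⟨a, ha⟩ := ih
    rw [mem_pow_iff hw] at ha
    obtain ⟨y, hy⟩ := ha
    obtain ⟨b, hb⟩ := hres y
    refine ⟨Fin.snoc a b, ?_⟩
    rw [Fin.sum_univ_castSucc]
    simp only [Fin.snoc_castSucc, Fin.snoc_last, Fin.val_castSucc, Fin.val_last]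
    have e : x - (∑ s, a s • w ^ (s : ℕ) + b • w ^ n) = w ^ n * (y - algebraMap k R b) := by
      rw [Algebra.smul_def b, mul_sub, ← hy]; ring
    rw [e, mem_pow_iff hw, pow_succ]
    refine mul_dvd_mul_left _ ?_
    have := (mem_pow_iff hw 1 _).1 (by rw [pow_one]; exact hb)
    rwa [pow_one] at this

theorem expand_injective {w : R} (hw : Irreducible w) (n : ℕ) (a : Fin n → k)
    (h : ∑ s, a s • w ^ (s : ℕ) ∈ maximalIdeal R ^ n) : a = 0 := by
  let p : k[X] := ∑ s : Fin n, C (a s) * X ^ (s : ℕ)
  have hpw : aeval w p = ∑ s, a s • w ^ (s : ℕ) := by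
    simp only [p, map_sum, map_mul, aeval_C, map_pow, aeval_X, Algebra.smul_def]
  have hcoeff : ∀ s : Fin n, p.coeff s = a s := by
    intro s
    simp only [p, finsetSum_coeff, coeff_C_mul, coeff_X_pow]
    rw [Finset.sum_eq_single s]
    · simp
    · intro t _ ht
      rw [if_neg (fun h => ht (Fin.ext h.symm)), mul_zero]
    · intro h; exact absurd (Finset.mem_univ s) h
  have hdeg : p.degree < n := by
    refine (degree_sum_le _ _).trans_lt ?_
    rw [Finset.sup_lt_iff (by exact_mod_cast WithBot.bot_lt_coe n)]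
    intro s _
    refine (degree_C_mul_X_pow_le _ _).trans_lt ?_
    exact_mod_cast s.2
  by_cases hp : p = 0
  · funext s
    rw [← hcoeff, hp, coeff_zero]; rfl
  · exfalso
    have h1 := le_rootMultiplicity (k := k) (b := 0) (y := w) (by simpa using hw) hp
      (by rw [hpw]; exact h)
    have h2 : p.rootMultiplicity (0 : k) ≤ p.natDegree := by
      have h4 := natDegree_le_of_dvd (pow_rootMultiplicity_dvd p (0 : k)) hp
      rwa [natDegree_pow, natDegree_X_sub_C, mul_one] at h4
    have h3 := (natDegree_lt_iff_degree_lt hp).2 hdeg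
    omega

end One

section Many

variable {k : Type*} [Field k] {ι : Type*} [Fintype ι] {O : ι → Type*} [∀ i, CommRing (O i)]
  [∀ i, IsDomain (O i)] [∀ i, IsDiscreteValuationRing (O i)] [∀ i, Algebra k (O i)]

variable (O) in
/-- The ideal `∏ m_i^{δ_i}`. -/
def idl (δ : ι → ℕ) : Ideal (∀ i, O i) := Ideal.pi fun i => maximalIdeal (O i) ^ δ i

theorem mem_idl {δ : ι → ℕ} {x : ∀ i, O i} :
    x ∈ idl O δ ↔ ∀ i, x i ∈ maximalIdeal (O i) ^ δ i := Iff.rfl

omit [Fintype ι] in
theorem mem_of_mem_sq {δ : ι → ℕ} {x : ∀ i, O i} (hx : x ∈ idl O δ * idl O δ) (i : ι) :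
    x i ∈ maximalIdeal (O i) ^ (2 * δ i) := by
  have h1 : x i ∈ Ideal.map (Pi.evalRingHom O i) (idl O δ * idl O δ) :=
    Ideal.mem_map_of_mem (Pi.evalRingHom O i) hx
  have h2 : Ideal.map (Pi.evalRingHom O i) (idl O δ) ≤ maximalIdeal (O i) ^ δ i := by
    rw [Ideal.map_le_iff_le_comap]
    intro y hy
    exact hy i
  rw [Ideal.map_mul] at h1
  rw [two_mul, pow_add]
  exact Ideal.mul_mono h2 h2 h1

theorem aeval_apply (y : ∀ i, O i) (p : k[X]) (i : ι) : (aeval y p) i = aeval (y i) p := by
  exact (aeval_algHom_apply (Pi.evalAlgHom k O i) y p).symm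

/-- A nonzero polynomial of multiplicity `≥ δ_i` at distinct `b_i` has degree `≥ ∑ δ_i`. -/
theorem sum_le_natDegree {p : k[X]} (hp : p ≠ 0) {b : ι → k} (hb : Function.Injective b)
    {δ : ι → ℕ} (h : ∀ i, δ i ≤ p.rootMultiplicity (b i)) : ∑ i, δ i ≤ p.natDegree := by
  classical
  have h1 : ∏ i, (X - C (b i)) ^ δ i ∣ p := by
    refine Finset.prod_dvd_of_coprime ?_ ?_
    · intro i _ j _ hij
      refine IsCoprime.pow ?_
      exact isCoprime_X_sub_C_of_isUnit_sub (sub_ne_zero.2 (hb.ne hij)).isUnit
    · intro i _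
      exact (pow_dvd_pow _ (h i)).trans (pow_rootMultiplicity_dvd p (b i))
  have h2 := natDegree_le_of_dvd h1 hp
  rw [natDegree_prod _ _ (fun i _ => pow_ne_zero _ (X_sub_C_ne_zero _))] at h2
  simpa [natDegree_pow, natDegree_X_sub_C] using h2

/-- Elements with distinct residues and uniformizing differences are good. -/
theorem good_of {δ : ι → ℕ} {y : ∀ i, O i} {b : ι → k} (hb : Function.Injective b)
    (hy : ∀ i, Irreducible (y i - algebraMap k (O i) (b i))) :
    Good (k := k) (idl O δ) (∑ i, δ i) y := by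
  constructor
  · intro p hp h
    by_contra h0
    have := sum_le_natDegree h0 hb (δ := δ) fun i =>
      le_rootMultiplicity (hy i) h0 (by rw [← aeval_apply]; exact h i)
    omega
  · intro p hp h
    by_contra h0
    have := sum_le_natDegree h0 hb (δ := fun i => 2 * δ i) fun i =>
      le_rootMultiplicity (hy i) h0 (by rw [← aeval_apply]; exact mem_of_mem_sq h i)
    rw [← Finset.mul_sum] at this
    omega

/-- The dimension of `∏ O_i / m_i^{δ_i}`. -/
theorem finrank_quotient (hres : ∀ i (x : O i), ∃ a : k, x - algebraMap k (O i) a ∈ maximalIdeal (O i))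
    (δ : ι → ℕ) : Module.finrank k ((∀ i, O i) ⧸ idl O δ) = ∑ i, δ i := by
  classical
  choose w hw using fun i => IsDiscreteValuationRing.exists_irreducible (O i)
  let ψ : ((Σ i, Fin (δ i)) → k) →ₗ[k] (∀ i, O i) :=
    LinearMap.pi fun i => ∑ s : Fin (δ i), (LinearMap.proj (R := k) (φ := fun _ => k)
      (⟨i, s⟩ : Σ i, Fin (δ i))).smulRight (w i ^ (s : ℕ))
  have hψ : ∀ a i, ψ a i = ∑ s : Fin (δ i), a ⟨i, s⟩ • w i ^ (s : ℕ) := by
    intro a i
    simp [ψ]
  let Ψ := (Ideal.Quotient.mkₐ k (idl O δ)).toLinearMap ∘ₗ ψ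
  have hinj : Function.Injective Ψ := by
    rw [← LinearMap.ker_eq_bot, LinearMap.ker_eq_bot']
    intro a ha
    have h1 : ψ a ∈ idl O δ := Ideal.Quotient.eq_zero_iff_mem.1 ha
    funext q
    obtain ⟨i, s⟩ := q
    have h2 := expand_injective (hw i) (δ i) (fun s => a ⟨i, s⟩) (by rw [← hψ]; exact h1 i)
    exact congrFun h2 s
  have hsurj : Function.Surjective Ψ := by
    intro x
    obtain ⟨x, rfl⟩ := Ideal.Quotient.mk_surjective x
    choose a ha using fun i => exists_expand (k := k) (hres i) (hw i) (x i) (δ i)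
    refine ⟨fun q => a q.1 q.2, ?_⟩
    refine (Ideal.Quotient.eq.2 ?_).symm
    intro i
    rw [Pi.sub_apply, hψ]
    exact ha i
  rw [← (LinearEquiv.ofBijective Ψ ⟨hinj, hsurj⟩).finrank_eq, Module.finrank_fintype_fun_eq_card,
    Fintype.card_sigma]
  simp

/-- A line of good elements in every direction. -/
theorem exists_dense [Infinite k]
    (hres : ∀ i (x : O i), ∃ a : k, x - algebraMap k (O i) a ∈ maximalIdeal (O i)) (δ : ι → ℕ) :
    ∃ x : ∀ i, O i, ∀ c : ∀ i, O i,
      {r : k | ¬ Good (k := k) (idl O δ) (∑ i, δ i) (x + r • c)}.Finite := by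
  classical
  choose w hw using fun i => IsDiscreteValuationRing.exists_irreducible (O i)
  let a : ι ↪ k := (Fintype.equivFin ι).toEmbedding.trans
    (Fin.valEmbedding.trans (Infinite.natEmbedding k))
  refine ⟨fun i => algebraMap k (O i) (a i) + w i, fun c => ?_⟩
  choose cb hcb using fun i => hres i (c i)
  have h1 : ∀ i, ∃ g, c i - algebraMap k (O i) (cb i) = w i * g := by
    intro i
    have := (mem_pow_iff (hw i) 1 _).1 (by rw [pow_one]; exact hcb i)
    rwa [pow_one] at this
  choose g hg using h1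
  choose gb hgb using fun i => hres i (g i)
  have hfin : ((⋃ i : ι, {r : k | 1 + r * gb i = 0}) ∪
      ⋃ p : ι × ι, {r : k | p.1 ≠ p.2 ∧ a p.1 + r * cb p.1 = a p.2 + r * cb p.2}).Finite := by
    refine Set.Finite.union (Set.finite_iUnion fun i => ?_) (Set.finite_iUnion fun p => ?_)
    · refine Set.Subsingleton.finite fun r hr s hs => ?_
      simp only [Set.mem_ofPred_eq] at hr hs
      have hg0 : gb i ≠ 0 := by
        rintro h
        rw [h, mul_zero, add_zero] at hr
        exact one_ne_zero hr
      exact mul_right_cancel₀ hg0 (by linear_combination hr - hs)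
    · refine Set.Subsingleton.finite fun r hr s hs => ?_
      simp only [Set.mem_ofPred_eq] at hr hs
      have hg0 : cb p.1 - cb p.2 ≠ 0 := by
        intro h
        apply hr.1
        apply a.injective
        linear_combination hr.2 - r * h
      exact mul_right_cancel₀ hg0 (by linear_combination hr.2 - hs.2)
  refine hfin.subset fun r hr => ?_
  by_contra hnot
  simp only [Set.mem_union, Set.mem_iUnion, Set.mem_ofPred_eq, not_or, not_exists] at hnot
  obtain ⟨hn1, hn2⟩ := hnot
  apply hr
  refine good_of (b := fun i => a i + r * cb i) ?_ fun i => ?_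
  · intro i j hij
    by_contra hne
    exact hn2 (i, j) ⟨hne, hij⟩
  · have e : (((fun i => algebraMap k (O i) (a i) + w i) + r • c) i -
        algebraMap k (O i) (a i + r * cb i)) = w i * (1 + algebraMap k (O i) r * g i) := by
      rw [Pi.add_apply, Pi.smul_apply, Algebra.smul_def, map_add, map_mul]
      have := hg i
      linear_combination (algebraMap k (O i) r) * this
    have hu : IsUnit (1 + algebraMap k (O i) r * g i) := by
      by_contra hnu
      have h2 : (1 + algebraMap k (O i) r * g i) ∈ maximalIdeal (O i) :=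
        (mem_maximalIdeal _).2 hnu
      have h3 : algebraMap k (O i) (1 + r * gb i) ∈ maximalIdeal (O i) := by
        have e3 : algebraMap k (O i) (1 + r * gb i) = (1 + algebraMap k (O i) r * g i) -
            algebraMap k (O i) r * (g i - algebraMap k (O i) (gb i)) := by
          rw [map_add, map_mul, map_one]; ring
        rw [e3]
        exact Ideal.sub_mem _ h2 (Ideal.mul_mem_left _ _ (hgb i))
      exact (mem_maximalIdeal _).1 h3 (isUnit_algebraMap (hn1 i))
    rw [e]
    exact (associated_mul_unit_right (w i) _ hu).irreducible (hw i)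

end Many

end K433.Indep
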