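import Groth.Agent.Fano.K433.IndepDvr

set_option autoImplicit false

/-! The zero scheme of the gradient of a cubic surface with isolated singularities on a smooth
curve contained in it imposes independent conditions on linear forms. -/

namespace K433.Indep

open K656.Trilin Polynomial IsLocalRing

section Main

variable {k : Type*} [Field k] {ι : Type*} [Fintype ι] {O : ι → Type*} [∀ i, CommRing (O i)]
  [∀ i, IsDomain (O i)] [∀ i, IsDiscreteValuationRing (O i)] [∀ i, Algebra k (O i)] {m : ℕ}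

/-- The linear forms are onto `∏ O_i / m_i^{δ_i}`. -/
def Sur (k : Type*) [Field k] {ι : Type*} {O : ι → Type*} [∀ i, CommRing (O i)]
    [∀ i, IsLocalRing (O i)] [∀ i, Algebra k (O i)] {m : ℕ} (φ : ∀ i, Fin m → O i)
    (δ : ι → ℕ) : Prop :=
  ∀ g : ∀ i, O i, ∃ c : Fin m → k, ∀ i, (∑ j, c j • φ i j) - g i ∈ maximalIdeal (O i) ^ δ i

/-- The span of the `φ_j` and of the ideal. -/
def spn (k : Type*) [Field k] {ι : Type*} {O : ι → Type*} [∀ i, CommRing (O i)]
    [∀ i, IsDomain (O i)] [∀ i, IsDiscreteValuationRing (O i)] [∀ i, Algebra k (O i)]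
    {m : ℕ} (φ : ∀ i, Fin m → O i) (δ : ι → ℕ) : Submodule k (∀ i, O i) where
  carrier := {g | ∃ c : Fin m → k, ∀ i, (∑ j, c j • φ i j) - g i ∈ maximalIdeal (O i) ^ δ i}
  add_mem' := by
    rintro a b ⟨c, hc⟩ ⟨c', hc'⟩
    refine ⟨c + c', fun i => ?_⟩
    have := Ideal.add_mem _ (hc i) (hc' i)
    convert this using 1
    simp only [Pi.add_apply, add_smul, Finset.sum_add_distrib]
    ring
  zero_mem' := ⟨0, fun i => by simp⟩
  smul_mem' := by
    rintro r a ⟨c, hc⟩
    refine ⟨r • c, fun i => ?_⟩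
    have := Ideal.mul_mem_left _ (algebraMap k (O i) r) (hc i)
    convert this using 1
    simp only [Pi.smul_apply, smul_eq_mul, mul_smul, ← Finset.smul_sum, ← smul_sub]
    rw [Algebra.smul_def]

omit [Fintype ι] in
theorem sur_iff (φ : ∀ i, Fin m → O i) (δ : ι → ℕ) : Sur k φ δ ↔ spn k φ δ = ⊤ := by
  rw [Submodule.eq_top_iff']; rfl

omit [Fintype ι] in
theorem idl_le_spn (φ : ∀ i, Fin m → O i) (δ : ι → ℕ) {x : ∀ i, O i} (hx : x ∈ idl O δ) :
    x ∈ spn k φ δ :=
  ⟨0, fun i => by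
    simp only [Pi.zero_apply, zero_smul, Finset.sum_const_zero, zero_sub]
    exact neg_mem (hx i)⟩

omit [Fintype ι] in
theorem phi_mem_spn (φ : ∀ i, Fin m → O i) (δ : ι → ℕ) (j : Fin m) :
    (fun i => φ i j) ∈ spn k φ δ :=
  ⟨Pi.single j 1, fun i => by
    simp only [Pi.single_apply, ite_smul, one_smul, zero_smul, Finset.sum_ite_eq',
      Finset.mem_univ, if_true, sub_self]
    exact zero_mem _⟩

variable {T : (Fin m → k) →ₗ[k] (Fin m → k) →ₗ[k] (Fin m → k) →ₗ[k] k}

/-- The inductive step. -/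
theorem sur_step [Infinite k] (hT : IsSym3 T) (hm : m ≤ 4)
    (H1 : ∀ L : Submodule k (Fin m → k), 3 ≤ Module.finrank k L → ∃ v ∈ L, T v v v ≠ 0)
    (H2 : ∀ L : Submodule k (Fin m → k), Module.finrank k L = 2 → ∃ v ∈ L, ∃ w, T v v w ≠ 0)
    (hres : ∀ i (x : O i), ∃ a : k, x - algebraMap k (O i) a ∈ maximalIdeal (O i))
    (φ : ∀ i, Fin m → O i) (h3 : ∀ i, ev T (φ i) (φ i) (φ i) = 0) (δ : ι → ℕ)
    (h2 : ∀ i c, ev T (φ i) (φ i) (Pi.single c 1) ∈ maximalIdeal (O i) ^ δ i)
    (hd : 3 ≤ ∑ i, δ i)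
    (ih : ∀ δ' : ι → ℕ, (∀ i, δ' i ≤ δ i) → ∑ i, δ' i < ∑ i, δ i → Sur k φ δ') : Sur k φ δ := by
  classical
  by_contra hns
  rw [sur_iff] at hns
  obtain ⟨z, hz⟩ : ∃ z, z ∉ spn k φ δ := by
    by_contra h
    push Not at h
    exact hns ((Submodule.eq_top_iff').2 h)
  obtain ⟨lam, hlz, hker⟩ := Submodule.exists_le_ker_of_notMem hz
  choose w hw using fun i => IsDiscreteValuationRing.exists_irreducible (O i)
  have hlI : ∀ x ∈ idl O δ, lam x = 0 := fun x hx => hker (idl_le_spn φ δ hx)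
  -- the socle elements
  let ε : ι → ∀ i, O i := fun i => Pi.single i (w i ^ (δ i - 1))
  have hdec : ∀ i, 0 < δ i → ∀ a : ∀ i, O i, ∃ r : k, a - r • ε i ∈ spn k φ δ := by
    intro i hi a
    have h1 := ih (Function.update δ i (δ i - 1)) (fun l => by
      by_cases h : l = i
      · subst h; simp
      · simp [Function.update_of_ne h]) (by
      refine Finset.sum_lt_sum (fun l _ => ?_) ⟨i, Finset.mem_univ _, by simp; omega⟩
      by_cases h : l = i
      · subst h; simp
      · simp [Function.update_of_ne h])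
    obtain ⟨c, hc⟩ := h1 a
    have hci := hc i
    rw [Function.update_self, mem_pow_iff (hw i)] at hci
    obtain ⟨y, hy⟩ := hci
    obtain ⟨r, hr⟩ := hres i y
    refine ⟨-r, c, fun l => ?_⟩
    by_cases h : l = i
    · subst h
      have e : (∑ j, c j • φ l j) - (a - (-r) • ε l) l =
          w l ^ (δ l - 1) * (y - algebraMap k (O l) r) := by
        rw [Pi.sub_apply, Pi.smul_apply]
        simp only [ε, Pi.single_eq_same]
        rw [neg_smul, Algebra.smul_def, mul_sub, ← hy]; ring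
      rw [e]
      have h5 := Ideal.mul_mem_mul ((mem_pow_iff (hw l) (δ l - 1) (w l ^ (δ l - 1))).2 dvd_rfl) hr
      rw [← pow_succ] at h5
      rwa [Nat.sub_add_cancel hi] at h5
    · have h4 := hc l
      rw [Function.update_of_ne h] at h4
      have e : (a - (-r) • ε i) l = a l := by
        rw [Pi.sub_apply, Pi.smul_apply]
        simp only [ε]
        rw [Pi.single_eq_of_ne h, smul_zero, sub_zero]
      rw [e]; exact h4
  have hlε : ∀ i, 0 < δ i → lam (ε i) ≠ 0 := by
    intro i hi h0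
    obtain ⟨r, hr⟩ := hdec i hi z
    have h1 := hker hr
    rw [LinearMap.mem_ker, map_sub, map_smul, h0, smul_zero, sub_zero] at h1
    exact hlz h1
  obtain ⟨i0, hi0⟩ : ∃ i, 0 < δ i := by
    by_contra h
    push Not at h
    have : ∑ i, δ i = 0 := Finset.sum_eq_zero fun i _ => Nat.le_zero.1 (h i)
    omega
  have hkerE : ∀ a, lam a = 0 → a ∈ spn k φ δ := by
    intro a ha
    obtain ⟨r, hr⟩ := hdec i0 hi0 a
    have h1 := hker hr
    rw [LinearMap.mem_ker, map_sub, map_smul, ha, zero_sub, neg_eq_zero, smul_eq_mul] at h1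
    have h2 : r = 0 := (mul_eq_zero.1 h1).resolve_right (hlε i0 hi0)
    rwa [h2, zero_smul, sub_zero] at hr
  have hnd : ∀ a : ∀ i, O i, (∀ b, lam (a * b) = 0) → a ∈ idl O δ := by
    intro a ha i
    by_contra hai
    have ha0 : a i ≠ 0 := by
      intro h
      rw [h] at hai
      exact hai (zero_mem _)
    obtain ⟨s, u, hu⟩ := IsDiscreteValuationRing.eq_unit_mul_pow_irreducible ha0 (hw i)
    have hs : s < δ i := by
      by_contra h
      push Not at h
      apply hai
      rw [mem_pow_iff (hw i), hu]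
      exact (pow_dvd_pow _ h).trans (dvd_mul_left _ _)
    have h1 := ha (Pi.single i (↑u⁻¹ * w i ^ (δ i - 1 - s)))
    have e : a * Pi.single i (↑u⁻¹ * w i ^ (δ i - 1 - s)) = ε i := by
      funext l
      by_cases h : l = i
      · subst h
        rw [Pi.mul_apply]
        simp only [ε, Pi.single_eq_same]
        rw [hu]
        have : (↑u * w l ^ s) * (↑u⁻¹ * w l ^ (δ l - 1 - s)) =
            (↑u * ↑u⁻¹) * (w l ^ s * w l ^ (δ l - 1 - s)) := by ring
        rw [this, ← Units.val_mul, mul_inv_cancel, Units.val_one, one_mul, ← pow_add]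
        congr 1; omega
      · rw [Pi.mul_apply]
        simp only [ε]
        rw [Pi.single_eq_of_ne h, Pi.single_eq_of_ne h, mul_zero]
    rw [e] at h1
    exact hlε i (by omega) h1
  -- apply the core
  let Φ : Fin m → ∀ i, O i := fun j i => φ i j
  have hΦ : ∀ j, lam (Φ j) = 0 := fun j => hker (phi_mem_spn φ δ j)
  have hW : ∀ a, lam a = 0 → ∃ c : Fin m → k, a - ∑ j, c j • Φ j ∈ idl O δ := by
    intro a ha
    obtain ⟨c, hc⟩ := hkerE a ha
    refine ⟨c, fun i => ?_⟩
    have := neg_mem (hc i)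
    rw [neg_sub] at this
    convert this using 1
    rw [Pi.sub_apply, Finset.sum_apply]
    rfl
  have hI := finrank_quotient hres δ
  have hr := finrank_range_vec (by omega) hI lam hlI hnd Φ hΦ hW
  set L := LinearMap.range (vec lam Φ) with hL
  have hL4 : Module.finrank k L ≤ m := by
    have := Submodule.finrank_le L
    rwa [Module.finrank_fin_fun] at this
  obtain ⟨x, hx⟩ := exists_dense hres δ
  have hev : ∀ (u v w : Fin m → ∀ i, O i) (i : ι),
      ev T u v w i = ev T (fun j => u j i) (fun j => v j i) (fun j => w j i) :=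
    fun u v w i => map_ev T (Pi.evalAlgHom k O i) u v w
  have h3' : ev T Φ Φ Φ ∈ idl O δ * idl O δ := by
    have : ev T Φ Φ Φ = 0 := by
      funext i
      rw [hev]
      exact h3 i
    rw [this]; exact zero_mem _
  have h2' : ∀ c, ev T Φ Φ (Pi.single c 1) ∈ idl O δ := by
    intro c i
    rw [hev]
    have e : (fun j => (Pi.single c (1 : ∀ i, O i) : Fin m → ∀ i, O i) j i) = Pi.single c 1 := by
      funext j
      by_cases h : j = c
      · subst h; simp
      · rw [Pi.single_eq_of_ne h, Pi.single_eq_of_ne h]; rfl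
    rw [e]
    exact h2 i c
  by_cases h5 : ∑ i, δ i ≤ 3
  · obtain ⟨v, ⟨c, rfl⟩, w', hw'⟩ := H2 L (by omega)
    exact hw' (sq_vec hT (by omega) h5 hI lam hlI Φ hΦ h2' x hx c w')
  · obtain ⟨v, ⟨c, rfl⟩, hv⟩ := H1 L (by omega)
    exact hv (cube_vec hT (by omega) (by omega) hI lam hlI Φ hΦ h3' h2' x hx c)

/-- **G6 (core).** -/
theorem sur_of [Infinite k] (hT : IsSym3 T) (hm : m ≤ 4)
    (H1 : ∀ L : Submodule k (Fin m → k), 3 ≤ Module.finrank k L → ∃ v ∈ L, T v v v ≠ 0)
    (H2 : ∀ L : Submodule k (Fin m → k), Module.finrank k L = 2 → ∃ v ∈ L, ∃ w, T v v w ≠ 0)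
    (hres : ∀ i (x : O i), ∃ a : k, x - algebraMap k (O i) a ∈ maximalIdeal (O i))
    (φ : ∀ i, Fin m → O i) (h3 : ∀ i, ev T (φ i) (φ i) (φ i) = 0) (δ : ι → ℕ)
    (h2 : ∀ i c, ev T (φ i) (φ i) (Pi.single c 1) ∈ maximalIdeal (O i) ^ δ i)
    (himm : ∀ δ' : ι → ℕ, (∀ i, δ' i ≤ δ i) → ∑ i, δ' i ≤ 2 → Sur k φ δ') : Sur k φ δ := by
  have key : ∀ n, ∀ δ' : ι → ℕ, (∀ i, δ' i ≤ δ i) → ∑ i, δ' i = n → Sur k φ δ' := by
    intro n
    induction n using Nat.strong_induction_on with
    | _ n ih =>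
      intro δ' hδ' hn
      by_cases h : ∑ i, δ' i ≤ 2
      · exact himm δ' hδ' h
      · refine sur_step hT hm H1 H2 hres φ h3 δ' (fun i c => ?_) (by omega) ?_
        · exact Ideal.pow_le_pow_right (hδ' i) (h2 i c)
        · intro δ'' hδ'' hlt
          exact ih _ (by omega) δ'' (fun i => (hδ'' i).trans (hδ' i)) rfl
  exact key _ δ (fun i => le_rfl) rfl

/-- Independent conditions: the length is at most the number of variables. -/
theorem sum_le_of_sur
    (hres : ∀ i (x : O i), ∃ a : k, x - algebraMap k (O i) a ∈ maximalIdeal (O i))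
    (φ : ∀ i, Fin m → O i) (δ : ι → ℕ) (h : Sur k φ δ) : ∑ i, δ i ≤ m := by
  rw [← finrank_quotient hres δ]
  let Φ : (Fin m → k) →ₗ[k] ((∀ i, O i) ⧸ idl O δ) :=
    (Ideal.Quotient.mkₐ k (idl O δ)).toLinearMap ∘ₗ
      LinearMap.pi fun i => ∑ j, (LinearMap.proj (R := k) (φ := fun _ => k) j).smulRight (φ i j)
  have hs : Function.Surjective Φ := by
    intro g
    obtain ⟨g, rfl⟩ := Ideal.Quotient.mk_surjective g
    obtain ⟨c, hc⟩ := h g
    refine ⟨c, Ideal.Quotient.eq.2 fun i => ?_⟩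
    have := hc i
    convert this using 1
    simp
  have := LinearMap.finrank_le_finrank_of_surjective (f := Φ) hs
  rwa [Module.finrank_fin_fun] at this

end Main

end K433.Indep
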